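import Cfsg.Agent.MQ.S.M35.Loc
import Cfsg.Agent.KZ.Spor.Syl
import Cfsg.Agent.H792.SpHeis_m3
import Cfsg.Agent.MQ.S.Pc2
import Cfsg.Agent.MQ.S.B.Tri
import Cfsg.Agent.H65.F4T.Mult
import Cfsg.Agent.F42.AllSys_m3
import Cfsg.Agent.Lib.FinFast
import Cfsg.Agent.FastGrp
import Cfsg.Agent.Prune
set_option linter.all false
prune_inst 0x7f00000000000000000000000000000000000000000000000000000000000000000000000000000000000000000000000000000000000000000000000000000000000000000000000000000000000000003fffffffffffffffffffffffffffbeffbdffffffff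
open scoped Cfsg.Agent.FastGrp

-- part: MO/S/J3/Two
section
/-!
# MO, local counts for `P / P'` of type `(p, p)`, with an automorphism (helper2)

* `exists_ch_gen` : the chart of two generators; `act_eq`, `rho_eq` : matrices from the images of the generators;
* `count` : `fN p N(P) β * |N(P) : P| = m ^ 2 * cntF p B L`, where `L` lists the matrices and `m = |ker ρ : P|`;
* `idx_dvd`, `range_iff`, `loc_fa`, `fa_of_cp`, `idx_le` : the faithful case;
* `heis_ch`, `heis_aut` : Sylow subgroups `3^{1+2}`.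
-/

set_option autoImplicit false

namespace Cfsg.Agent.MO.S.Two

open Cfsg Subgroup Cfsg.Agent.MO.T Cfsg.Agent.MO.S.M7 Matrix
open scoped commutatorElement

variable {p : ℕ} {G : Type} [Group G] {P : Subgroup G} {x y : G}

/-- `x` and `y` generate `P` modulo `P'` -/
def Gen (P : Subgroup G) (x y : G) : Prop :=
  x ∈ P ∧ y ∈ P ∧ ∀ u ∈ P, ∃ i j : ℕ, (x ^ i * y ^ j)⁻¹ * u ∈ ⁅P, P⁆

theorem ab_eq (u v : P) : Abelianization.of u = Abelianization.of v ↔ (u : G)⁻¹ * v ∈ ⁅P, P⁆ := by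
  rw [← map_subtype_commutator]
  exact QuotientGroup.eq.trans (mem_map_iff_mem P.subtype_injective).symm

theorem Gen.of_closure [Finite G] (h : P = _root_.Subgroup.closure {x, y}) : Gen P x y := by
  have hx : x ∈ P := h.ge (_root_.Subgroup.subset_closure (by simp))
  have hy : y ∈ P := h.ge (_root_.Subgroup.subset_closure (by simp))
  have key : ∀ u (hu : u ∈ _root_.Subgroup.closure ({x, y} : Set G)), Abelianization.of (⟨u, h.ge hu⟩ : P) ∈
      zpowers (Abelianization.of (⟨x, hx⟩ : P)) ⊔ zpowers (Abelianization.of (⟨y, hy⟩ : P)) := fun u hu => by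
    induction hu using closure_induction with
    | mem u hu =>
      rcases hu with rfl | rfl
      exacts [mem_sup_left (mem_zpowers _), mem_sup_right (mem_zpowers _)]
    | one => exact one_mem _
    | mul u v _ _ a b => exact mul_mem a b
    | inv u _ a => exact inv_mem a
  refine ⟨hx, hy, fun u hu => ?_⟩
  have : Finite (Abelianization P) := inferInstanceAs (Finite (P ⧸ _root_.commutator P))
  obtain ⟨a, ha, b, hb, e⟩ := mem_sup.1 (key u (h.le hu))
  obtain ⟨i, rfl⟩ := (mem_powers_iff_mem_zpowers).2 ha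
  obtain ⟨j, rfl⟩ := (mem_powers_iff_mem_zpowers).2 hb
  exact ⟨i, j, (ab_eq (⟨x, hx⟩ ^ i * ⟨y, hy⟩ ^ j) ⟨u, hu⟩).1 (by rw [map_mul, map_pow, map_pow]; exact e)⟩

theorem exists_ch_gen [Finite G] [hp : Fact p.Prime] (h : Gen P x y) (hx : x ^ p ∈ ⁅P, P⁆) (hy : y ^ p ∈ ⁅P, P⁆)
    (hi : p ^ 2 ≤ (_root_.commutator P).index) : ∃ C : Ch p P, C.c x = ![1, 0] ∧ C.c y = ![0, 1] := by
  classical
  obtain ⟨h1, h2, h3⟩ := h
  have pw : ∀ u : P, (u : G) ^ p ∈ ⁅P, P⁆ → ∀ k, Abelianization.of u ^ (k % p) = Abelianization.of u ^ k :=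
    fun u hu k => (pow_eq_pow_mod k (by
      rw [← map_pow, ← map_one Abelianization.of, eq_comm, ab_eq]
      simpa only [_root_.OneMemClass.coe_one, _root_.inv_one, _root_.SubmonoidClass.coe_pow, _root_.one_mul] using hu)).symm
  let f : V2 p → Abelianization P := fun v =>
    Abelianization.of (⟨x, h1⟩ : P) ^ (v 0).val * Abelianization.of (⟨y, h2⟩ : P) ^ (v 1).val
  have fa : ∀ v w, f (v + w) = f v * f w := fun v w => by
    simp only [f, Pi.add_apply, ZMod.val_add, pw ⟨x, h1⟩ hx, pw ⟨y, h2⟩ hy, pow_add, mul_mul_mul_comm]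
  have fs : Function.Surjective f := fun a => by
    obtain ⟨u, rfl⟩ := QuotientGroup.mk_surjective (s := _root_.commutator P) a
    obtain ⟨i, j, e⟩ := h3 u u.2
    refine ⟨![i, j], Eq.trans ?_ ((ab_eq (⟨x, h1⟩ ^ i * ⟨y, h2⟩ ^ j) u).2 e)⟩
    simp only [f, cons_val_zero, cons_val_one, ZMod.val_natCast, pw ⟨x, h1⟩ hx, pw ⟨y, h2⟩ hy, map_mul, map_pow]
  have h4 : Nat.card (V2 p) = p ^ 2 := by simp
  let e := Equiv.ofBijective f ((Nat.bijective_iff_surjective_and_card f).2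
    ⟨fs, le_antisymm (h4.le.trans hi) (Nat.card_le_card_of_surjective f fs)⟩)
  have he : ∀ a, f (e.symm a) = a := e.apply_symm_apply
  have h5 : Pre p P fun u => if h : u ∈ P then e.symm (Abelianization.of ⟨u, h⟩) else 0 := by
    refine ⟨fun u hu v hv => ?_, fun v => ?_, fun u hu h5 => ?_⟩
    · rw [dif_pos hu, dif_pos hv, dif_pos (mul_mem hu hv), e.symm_apply_eq]
      exact ((fa _ _).trans (by rw [he, he, ← map_mul]; rfl)).symm
    · obtain ⟨u, hu⟩ := QuotientGroup.mk_surjective (s := _root_.commutator P) (e v)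
      exact ⟨u, u.2, (dif_pos u.2).trans (e.symm_apply_eq.2 hu)⟩
    · rw [dif_pos hu, e.symm_apply_eq] at h5
      simpa only [_root_.OneMemClass.coe_one, _root_.inv_one, _root_.one_mul] using (ab_eq 1 ⟨u, hu⟩).1 (by rw [h5, map_one]; simp [e, f])
  obtain ⟨C, hC⟩ := h5.exists_ch
  refine ⟨C, ?_, ?_⟩
  · refine (congrFun hC x).trans ((dif_pos h1).trans (e.symm_apply_eq.2 ?_))
    simp [e, f, ZMod.val_one]
  · refine (congrFun hC y).trans ((dif_pos h2).trans (e.symm_apply_eq.2 ?_))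
    simp [e, f, ZMod.val_one]

theorem map_comm {β : MulAut G} (hβ : ∀ u ∈ P, β u ∈ P) {u : G} (hu : u ∈ ⁅P, P⁆) : β u ∈ ⁅P, P⁆ := by
  have h1 : P.map β.toMonoidHom ≤ P := by
    rintro _ ⟨v, hv, rfl⟩
    exact hβ v hv
  exact commutator_mono h1 h1 ((Subgroup.map_commutator P P _).le ⟨u, hu, rfl⟩)

section chart

variable {C : Ch p P} (h : Gen P x y) (hx : C.c x = ![1, 0]) (hy : C.c y = ![0, 1])
include h hx hy

theorem c_eq {u : G} (hu : u ∈ P) {i j : ℕ} (e : (x ^ i * y ^ j)⁻¹ * u ∈ ⁅P, P⁆) : C.c u = ![(i : ZMod p), j] := by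
  rw [← (C.pre.eq_iff (mul_mem (pow_mem h.1 i) (pow_mem h.2.1 j)) hu).2 e, C.pre.add _ (pow_mem h.1 i) _ (pow_mem h.2.1 j),
    C.pre.pow h.1, C.pre.pow h.2.1, hx, hy]
  simp

/-- the matrix of an automorphism -/
theorem act_eq {β : MulAut G} (hβ : ∀ u ∈ P, β u ∈ P) {i j k l : ℕ} (h1 : (x ^ i * y ^ j)⁻¹ * β x ∈ ⁅P, P⁆)
    (h2 : (x ^ k * y ^ l)⁻¹ * β y ∈ ⁅P, P⁆) : ∀ u ∈ P, C.c (β u) = !![(i : ZMod p), k; j, l] *ᵥ C.c u := fun u hu => by
  obtain ⟨a, b, e⟩ := h.2.2 u hu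
  have h3 := map_comm hβ e
  have h4 := hβ x h.1
  have h5 := hβ y h.2.1
  rw [map_mul, map_inv, map_mul, map_pow, map_pow] at h3
  rw [← (C.pre.eq_iff (mul_mem (pow_mem h4 a) (pow_mem h5 b)) (hβ u hu)).2 h3, C.pre.add _ (pow_mem h4 a) _ (pow_mem h5 b),
    C.pre.pow h4, C.pre.pow h5, c_eq h hx hy h4 h1, c_eq h hx hy h5 h2, c_eq h hx hy hu e]
  ext s
  (revert s; simp only [mul_comm, _root_.Fin.forall_fin_succ, _root_.Nat.succ_eq_add_one, Nat.reduceAdd, _root_.Matrix.smul_cons, _root_.nsmul_eq_mul, _root_.Matrix.smul_empty, _root_.Pi.add_apply, _root_.Matrix.mulVec_cons, _root_.Matrix.mulVec_empty, _root_.add_zero, _root_.Pi.smul_apply, _root_.Function.comp_apply, _root_.smul_eq_mul, Fin.isValue, _root_.Matrix.cons_val_zero, _root_.Matrix.head_cons, _root_.Matrix.tail_cons, _root_.Matrix.cons_val_succ, _root_.Matrix.cons_val_fin_one, _root_.implies_true, _root_.and_self])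

theorem rho_eq (g : NN P) {i j k l : ℕ} (h1 : (x ^ i * y ^ j)⁻¹ * (g * x * (g : G)⁻¹) ∈ ⁅P, P⁆)
    (h2 : (x ^ k * y ^ l)⁻¹ * (g * y * (g : G)⁻¹) ∈ ⁅P, P⁆) : C.ρ g = !![(i : ZMod p), k; j, l] :=
  C.pre.mat_ext fun u hu => by
    rw [← C.conj g u hu]
    exact act_eq h hx hy (β := MulAut.conj (g : G)) (fun _ => conj_mem g) h1 h2 u hu

end chart

/-- automorphisms which are given on the generators -/
theorem heis_aut [Finite G] {z : G} {C : Ch p P} (h : P = _root_.Subgroup.closure {x, y}) (hz : z ∈ ⁅P, P⁆) (hx : C.c x = ![1, 0]) (hy : C.c y = ![0, 1])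
    {β : MulAut G} {i j k l m n : ℕ} (h1 : β x = x ^ i * y ^ j * z ^ m) (h2 : β y = x ^ k * y ^ l * z ^ n) :
    (∀ u, β u ∈ P ↔ u ∈ P) ∧ ∀ u ∈ P, C.c (β u) = !![(i : ZMod p), k; j, l] *ᵥ C.c u := by
  have g := Gen.of_closure h
  have h3 : ∀ a b c : ℕ, x ^ a * y ^ b * z ^ c ∈ P := fun a b c =>
    mul_mem (mul_mem (pow_mem g.1 a) (pow_mem g.2.1 b)) (pow_mem (comm_le hz) c)
  have h4 : _root_.Subgroup.closure {x, y} ≤ P.comap β.toMonoidHom := (closure_le _).2 (by
    rintro u (rfl | rfl)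
    exacts [(h1 ▸ h3 i j m : β u ∈ P), (h2 ▸ h3 k l n : β u ∈ P)])
  have h5 : ∀ u ∈ P, β u ∈ P := fun u hu => h4 (h.le hu)
  exact ⟨MK.T.stab_of_le h5, act_eq g hx hy h5 (by rw [h1, inv_mul_cancel_left]; exact pow_mem hz m)
    (by rw [h2, inv_mul_cancel_left]; exact pow_mem hz n)⟩

theorem heis_conj [Finite G] {z : G} {C : Ch p P} (h : P = _root_.Subgroup.closure {x, y}) (hz : z ∈ ⁅P, P⁆) (hx : C.c x = ![1, 0]) (hy : C.c y = ![0, 1])
    {g : G} {i j k l m n : ℕ} (h1 : g * x = x ^ i * y ^ j * z ^ m * g) (h2 : g * y = x ^ k * y ^ l * z ^ n * g) :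
    ∃ hg : g ∈ NN P, C.ρ ⟨g, hg⟩ = !![(i : ZMod p), k; j, l] := by
  obtain ⟨h3, h4⟩ := heis_aut h hz hx hy (β := MulAut.conj g) (mul_inv_eq_of_eq_mul h1) (mul_inv_eq_of_eq_mul h2)
  exact ⟨mem_normalizer_iff.2 fun u => (h3 u).symm, C.pre.mat_ext fun u hu => by rw [← C.conj _ u hu, ← h4 u hu]; rfl⟩

/-- the number of the triples -/
def cntF (p : ℕ) (B : Q4) (L : List Q4) : ℕ :=
  (L.map fun a => (L.map fun c => ((List.range p).map fun s => ((List.range p).map fun t =>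
    if eqQ (_root_.Cfsg.Agent.MO.S.M7.mul p (_root_.Cfsg.Agent.MO.S.M7.mul p c B) a) (_root_.Cfsg.Agent.MO.S.M7.mul p (_root_.Cfsg.Agent.MO.S.M7.mul p a c) B) && fix p s t a && fix p s t (_root_.Cfsg.Agent.MO.S.M7.mul p c B) then 1 else 0).sum).sum).sum).sum

theorem sum_fib {H M A : Type} [Group H] [Fintype H] [Monoid M] (r : H →* M) {μ : M → A} (hμ : Function.Injective μ)
    {L : List A} (nd : L.Nodup) (hL : ∀ q, q ∈ L ↔ ∃ g, μ (r g) = q) (F : A → ℕ) :
    ∑ g, F (μ (r g)) = Nat.card r.ker * (L.map F).sum := by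
  classical
  rw [Finset.sum_comp (fun a => F (μ a)) r, ← List.sum_toFinset F nd,
    show L.toFinset = (Finset.univ.image r).image μ from Finset.ext fun q => by simp only [hL, _root_.List.mem_toFinset, _root_.Finset.mem_image, _root_.Finset.mem_univ, _root_.true_and, _root_.exists_exists_eq_and],
    Finset.sum_image fun a _ b _ e => hμ e, Finset.mul_sum]
  refine Finset.sum_congr rfl fun b hb => ?_
  rw [MonoidHom.card_fiber_eq_of_mem_range r (x := b) (y := 1) (by simpa only [_root_.Set.mem_range, _root_.Finset.mem_image, _root_.Finset.mem_univ, _root_.true_and] using hb) ⟨1, map_one r⟩, smul_eq_mul,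
    Nat.card_eq_fintype_card, Fintype.card_subtype]
  simp only [MonoidHom.mem_ker]

variable [Finite G] [hp : Fact p.Prime] {S : Sylow p G} (C : Ch p (S : Subgroup G))

omit [Finite G] hp in
theorem stab_norm {β : MulAut G} (hβ : ∀ u, β u ∈ P ↔ u ∈ P) (g : G) : β g ∈ NN P ↔ g ∈ NN P := by
  simp only [mem_normalizer_iff]
  refine ⟨fun h u => by rw [← hβ u, h, ← map_inv, ← map_mul, ← map_mul, hβ], fun h u => ?_⟩
  obtain ⟨u, rfl⟩ := β.surjective u
  rw [hβ u, h, ← map_inv, ← map_mul, ← map_mul, hβ]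

/-- **the count** -/
theorem count {β : MulAut G} (hβ : ∀ u, β u ∈ (S : Subgroup G) ↔ u ∈ (S : Subgroup G)) {B : M2 p}
    (hB : ∀ u ∈ (S : Subgroup G), C.c (β u) = B *ᵥ C.c u) {L : List Q4} (nd : L.Nodup)
    (hL : ∀ q, q ∈ L ↔ ∃ g, toQ (C.ρ g) = q)
    (hc : ∀ a a' c : NN (S : Subgroup G), (a' : G) = β a → C.ρ (c * a') = C.ρ (a * c) →
      (((c * a')⁻¹ * (a * c) : NN (S : Subgroup G)) : G) ∈ (S : Subgroup G)) :
    ∃ m, (S : Subgroup G).relIndex (NN S) = m * L.length ∧ fN p (NN (S : Subgroup G)) β * L.length = m * cntF p (toQ B) L := by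
  classical
  let T := (S : Subgroup G).subgroupOf (NN S)
  have : T.Normal := normal_in_normalizer
  have hT : IsPGroup p T := S.isPGroup'.comap_subtype
  have h1 : ∀ u : NN (S : Subgroup G), u ∈ ⁅T, T⁆ ↔ (u : G) ∈ ⁅(S : Subgroup G), (S : Subgroup G)⁆ := fun u => by
    rw [← mem_map_iff_mem (subtype_injective _), Subgroup.map_commutator, map_subgroupOf_eq_of_le le_normalizer]
    rfl
  let γ := MK.T.res _ β (stab_norm hβ)
  let r : _ ⧸ T →* M2 p := QuotientGroup.lift T C.ρ fun g hg => C.rho_of_mem hg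
  let b : _ ⧸ T →* _ ⧸ T := QuotientGroup.map T T γ.toMonoidHom fun g hg => (hβ g).2 hg
  let act : DistribMulAction (_ ⧸ T) (V2 p) :=
    { smul := fun a v => r a *ᵥ v
      one_smul := fun v => by
        change r 1 *ᵥ v = v
        rw [map_one, one_mulVec]
      mul_smul := fun a c v => by
        change r (a * c) *ᵥ v = r a *ᵥ r c *ᵥ v
        rw [map_mul, mulVec_mulVec]
      smul_zero := fun a => mulVec_zero _
      smul_add := fun a => mulVec_add _ }
  have h2 := MO.L.f0_mul_card (p := p) T hT (QuotientGroup.mk' T) (QuotientGroup.mk'_surjective T) (QuotientGroup.ker_mk' T)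
    not_dvd_rel (MonoidHom.mk' (fun u : T => Multiplicative.ofAdd (C.c u.1.1)) fun u v =>
      congrArg Multiplicative.ofAdd (C.pre.add _ u.2 _ v.2))
    (fun v => (C.pre.surj v.toAdd).elim fun u hu => ⟨⟨⟨u, le_normalizer hu.1⟩, hu.1⟩, congrArg Multiplicative.ofAdd hu.2⟩)
    (fun q => Iff.trans ⟨C.pre.ker _ q.2, C.pre.zero⟩ (h1 q).symm)
    (fun g q q' e => (congrArg (fun u : NN (S : Subgroup G) => C.c u) e).trans (C.conj g _ q.2)) γ
    (fun q hq => (hβ q).2 hq) (fun v => B *ᵥ v)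
    (fun q q' e => (congrArg (fun u : NN (S : Subgroup G) => C.c u) e).trans (hB _ q.2)) b fun _ => rfl
  have h3 : ∀ X Y : M2 p, X * B = Y * B → X = Y := fun X Y e => C.pre.mat_ext fun u hu => by
    obtain ⟨u, rfl⟩ := β.surjective u
    rw [hB u ((hβ u).1 hu), mulVec_mulVec, mulVec_mulVec, e]
  have h4 : ∀ a, C.ρ (γ a) * B = B * C.ρ a := fun a => C.pre.mat_ext fun u hu => by
    rw [← mulVec_mulVec, ← mulVec_mulVec, ← hB u hu, ← C.conj a u hu, ← C.conj _ _ ((hβ u).2 hu), ← hB _ (conj_mem a hu),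
      map_mul, map_mul, map_inv]
    rfl
  have h5 : ∀ a c, c * b a = a * c ↔ r c * B * r a = r a * r c * B := fun a c => by
    obtain ⟨a, rfl⟩ := QuotientGroup.mk_surjective a
    obtain ⟨c, rfl⟩ := QuotientGroup.mk_surjective c
    change _ ↔ C.ρ c * B * C.ρ a = C.ρ a * C.ρ c * B
    rw [mul_assoc, ← h4, ← mul_assoc, ← map_mul, ← map_mul]
    exact ⟨fun e => (congrArg (r · * B) e :), fun e => QuotientGroup.eq.2 (hc a _ c rfl (h3 _ _ e))⟩
  have := Fintype.ofFinite (_ ⧸ T)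
  have h6 : ∀ q, q ∈ L ↔ ∃ g, toQ (r g) = q := fun q => (hL q).trans
    ⟨fun ⟨g, e⟩ => ⟨g, e⟩, fun ⟨g, e⟩ => (QuotientGroup.mk_surjective g).elim fun x hx => ⟨x, by rw [← e, ← hx]; rfl⟩⟩
  have h7 : Nat.card (_ ⧸ T) = Nat.card r.ker * L.length := by
    simpa only [_root_.Nat.card_eq_fintype_card, _root_.MonoidHom.mem_ker, _root_.Finset.sum_const, _root_.Finset.card_univ, _root_.smul_eq_mul, _root_.mul_one, _root_.List.map_const', _root_.List.sum_replicate] using sum_fib r toQ_inj nd h6 fun _ => 1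
  refine ⟨Nat.card r.ker, h7, Nat.eq_of_mul_eq_mul_left (Nat.card_pos (α := r.ker)) ?_⟩
  rw [fN_eq_f0 (β := γ) fun _ => rfl, mul_left_comm, ← h7, h2, cntF, ← List.sum_map_mul_left, ← sum_fib r toQ_inj nd h6,
    Nat.card_eq_fintype_card, Fintype.card_subtype, Finset.card_filter, Fintype.sum_prod_type, Fintype.sum_prod_type]
  refine Finset.sum_congr rfl fun a _ => ?_
  rw [← sum_fib r toQ_inj nd h6]
  refine Finset.sum_congr rfl fun c _ => ?_
  rw [← sum_V2]
  refine Finset.sum_congr rfl fun v _ => if_congr ?_ rfl rfl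
  simp only [Bool.and_eq_true, ← toQ_mul, fix_iff, eqQ_iff, toQ_inj.eq_iff, h5, and_assoc, ← mulVec_mulVec]
  rfl

/-- the value of a word in two matrices -/
def ev (p : ℕ) (a b : Q4) (w : List Bool) : Q4 := w.foldr (fun t q => _root_.Cfsg.Agent.MO.S.M7.mul p (cond t a b) q) (1, 0, 0, 1)

omit [Finite G] in
theorem rg_ev {g h : NN (S : Subgroup G)} {a b : Q4} (ha : toQ (C.ρ g) = a) (hb : toQ (C.ρ h) = b) (w : List Bool) :
    ∃ k, toQ (C.ρ k) = ev p a b w := by
  induction w with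
  | nil => exact ⟨1, by simp only [toQ, ev, ZMod.val_one, _root_.Fin.isValue, _root_.map_one, _root_.Matrix.one_apply_eq, _root_.ne_eq, _root_.zero_ne_one, _root_.not_false_eq_true, _root_.Matrix.one_apply_ne, _root_.ZMod.val_zero, _root_.one_ne_zero, _root_.List.foldr_nil]⟩
  | cons t w ih =>
    obtain ⟨k, hk⟩ := ih
    exact ⟨cond t g h * k, by cases t <;> rw [map_mul, toQ_mul, hk] <;> [rw [cond_false, hb]; rw [cond_true, ha]] <;> rfl⟩

omit [Finite G] in
theorem card_range : (Set.range fun g => toQ (C.ρ g)).ncard = C.ρ.toHomUnits.ker.index := by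
  rw [index_ker, ← Set.ncard_image_of_injective (s := (C.ρ.toHomUnits.range : Set (M2 p)ˣ))
    (toQ_inj.comp Units.val_injective) |>.trans (Set.ncard_def _ ▸ rfl : _ = Nat.card C.ρ.toHomUnits.range)]
  congr 1
  ext q
  exact ⟨fun ⟨g, h⟩ => ⟨_, ⟨g, rfl⟩, h⟩, fun ⟨_, ⟨g, h⟩, h'⟩ => ⟨g, by rw [← h', ← h]; rfl⟩⟩

theorem range_iff {L : List Q4} (nd : L.Nodup) (h1 : ∀ q ∈ L, ∃ g, toQ (C.ρ g) = q)
    (h2 : C.ρ.toHomUnits.ker.index ≤ L.length) (q : Q4) : q ∈ L ↔ ∃ g, toQ (C.ρ g) = q := by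
  have h5 := Set.eq_of_subset_of_ncard_le (s := L.toFinset) (t := Set.range fun g => toQ (C.ρ g))
    (fun q hq => h1 q (List.mem_toFinset.1 hq)) (by rwa [card_range, Set.ncard_coe_finset, List.toFinset_card_of_nodup nd])
  rw [← List.mem_toFinset, ← Finset.mem_coe, h5]
  rfl

omit [Finite G] in
theorem idx_dvd_rel : C.ρ.toHomUnits.ker.index ∣ (S : Subgroup G).relIndex (NN S) :=
  index_dvd_of_le fun _ hg => Units.ext (C.rho_of_mem hg)

omit hp in
theorem idx_dvd [Fact (Nat.Prime 3)] {S : Sylow 3 G} (C : Ch 3 (S : Subgroup G)) : C.ρ.toHomUnits.ker.index ∣ 16 := by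
  have h1 : C.ρ.toHomUnits.ker.index ∣ 3 * 16 := by
    rw [index_ker]
    refine (card_subgroup_dvd_card _).trans (dvd_of_eq ((card_GL_field (𝔽 := ZMod 3) 2).trans ?_))
    simp only [_root_.ZMod.card, _root_.Nat.reducePow, _root_.Fin.prod_univ_two, _root_.Fin.isValue, _root_.Fin.coe_ofNat_eq_mod, _root_.Nat.zero_mod, _root_.pow_zero, _root_.Nat.add_one_sub_one, _root_.Nat.mod_succ, _root_.pow_one, _root_.Nat.reduceSub, _root_.Nat.reduceMul]
  exact ((Nat.Prime.coprime_iff_not_dvd Nat.prime_three).2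
    (nd_of_dvd not_dvd_rel (idx_dvd_rel C))).symm.dvd_of_dvd_mul_left h1

variable {C}

/-- **the faithful case** -/
theorem loc_fa (hf : C.Fa) {g h : NN (S : Subgroup G)} {a b : Q4} (ha : toQ (C.ρ g) = a) (hb : toQ (C.ρ h) = b)
    (W : List (List Bool)) (nd : (W.map (ev p a b)).Nodup) (hle : C.ρ.toHomUnits.ker.index ≤ W.length) {β : MulAut G}
    (hβ : ∀ u, β u ∈ (S : Subgroup G) ↔ u ∈ (S : Subgroup G)) {B : M2 p}
    (hB : ∀ u ∈ (S : Subgroup G), C.c (β u) = B *ᵥ C.c u) :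
    fN p (NN (S : Subgroup G)) β * W.length = cntF p (toQ B) (W.map (ev p a b)) := by
  have h1 := range_iff C nd (List.forall_mem_map.2 fun w _ => rg_ev C ha hb w) (by rwa [List.length_map])
  obtain ⟨m, h2, h3⟩ := count C hβ hB nd h1 fun a a' c _ e => hf _ (by
    rw [map_mul, ← e, ← map_mul, inv_mul_cancel, map_one])
  rw [List.length_map] at h2 h3
  have h4 : 0 < m * W.length := h2 ▸ Nat.pos_of_ne_zero index_ne_zero_of_finite
  rw [relIndex, ← hf.ker] at h2
  rw [h3, le_antisymm (Nat.le_of_mul_le_mul_right (h2.ge.trans (hle.trans (one_mul _).ge)) (Nat.pos_of_mul_pos_left h4))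
    (Nat.pos_of_mul_pos_right h4), one_mul]

theorem card_syl (S : Sylow p G) {k m : ℕ} (h : Nat.card G = p ^ k * m) (hm : ¬ p ∣ m) :
    Nat.card (S : Subgroup G) = p ^ k := by
  have h0 : m ≠ 0 := fun e => hm (e ▸ dvd_zero p)
  rw [S.card_eq_multiplicity, h, Nat.factorization_mul (pow_ne_zero _ hp.out.ne_zero) h0,
    hp.out.factorization_pow, Finsupp.add_apply, Finsupp.single_eq_same, Nat.factorization_eq_zero_of_not_dvd hm, add_zero]

omit hp

section three

variable [Fact (Nat.Prime 3)] {S : Sylow 3 G}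

theorem fa_of_cp (h : KZ.Spor.CP G) (C : Ch 3 (S : Subgroup G)) : C.Fa := C.fa fun y h1 h2 h3 =>
  h1.one_lt.ne' (orderOf_eq_one_iff.2 (h S y (fun _ hs => mem_centralizer_singleton_iff.1 (h3 hs)) fun e =>
    h2 ((Nat.prime_dvd_prime_iff_eq Nat.prime_three h1).1 e).symm))

theorem idx_le {C : Ch 3 (S : Subgroup G)} (hf : C.Fa) {k m : ℕ} (h : Nat.card G = 3 ^ k * m) (hm : m % 3 = 2) :
    C.ρ.toHomUnits.ker.index ≤ 8 := by
  have h1 := card_mod (S := S) (by rwa [card_syl S h (by omega)])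
  have h2 := idx_dvd C
  rw [relIndex, ← hf.ker, hm] at h1
  generalize C.ρ.toHomUnits.ker.index = n at h1 h2
  have h3 := Nat.le_of_dvd (by norm_num) h2
  interval_cases n <;> (clear * - h1 h2; omega)

open H792.SpCube

theorem heis_ch {z : G} (h4 : ¬ 3 ^ 4 ∣ Nat.card G) (h : Heis 3 x y z) : ∃ S : Sylow 3 G, (S : Subgroup G) = _root_.Subgroup.closure {x, y} ∧
    z ∈ ⁅(S : Subgroup G), (S : Subgroup G)⁆ ∧ ∃ C : Ch 3 (S : Subgroup G), C.c x = ![1, 0] ∧ C.c y = ![0, 1] := by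
  obtain ⟨S, h1, h2⟩ := exists_heis h4 h
  have hx : x ∈ _root_.Subgroup.closure ({x, y} : Set G) := _root_.Subgroup.subset_closure (by simp)
  have hy : y ∈ _root_.Subgroup.closure ({x, y} : Set G) := _root_.Subgroup.subset_closure (by simp)
  have h3 : z = ⁅y⁻¹, x⁻¹⁆ := by
    rw [commutatorElement_def, inv_inv, inv_inv, mul_assoc, h.yx]
    group
  have h5 := commutator_mem_commutator (inv_mem hy) (inv_mem hx)
  have h6 : (S : Subgroup G) = _root_.Subgroup.closure {x, y} := by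
    refine le_antisymm (h1.le.trans (sup_le (zpowers_le.2 hy) (sup_le (zpowers_le.2 hx) (zpowers_le.2 (h3 ▸ comm_le h5)))))
      ((closure_le _).2 ?_)
    rintro u (rfl | rfl)
    exacts [h1.ge (mem_sup_right (mem_sup_left (mem_zpowers _))), h1.ge (mem_sup_left (mem_zpowers _))]
  exact ⟨S, h6, h6 ▸ h3 ▸ h5, exists_ch_gen (Gen.of_closure h6) (h.x_pow ▸ one_mem _) (h.y_pow ▸ one_mem _)
    (KZ.Spor.nine_le S.isPGroup' (by rw [h2]; norm_num))⟩

end three

end Cfsg.Agent.MO.S.Two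
end

-- part: MO/S/J4/Sd
section
/-!
# MO, the local count for `N(P) / P = 2.SD₁₆` (helper2)

* `cen_of_ker` : the `p'`-elements which act trivially on `P / P'` centralise `P`;
* `loc_sd` : eighteen characters, if the kernel of the action has order two modulo `P` and the image contains `D₈`.
-/

set_option autoImplicit false
set_option maxRecDepth 100000

namespace Cfsg.Agent.MO.S.Two

open Cfsg Subgroup Cfsg.Agent.MO.T Cfsg.Agent.MO.S.M7 Matrix

variable {G : Type} [Group G] [Finite G]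

theorem cen_of_ker {p : ℕ} [Fact p.Prime] {S : Sylow p G} (C : Ch p (S : Subgroup G)) {y : NN (S : Subgroup G)}
    (hy : C.ρ y = 1) (ho : ¬ p ∣ orderOf y) : (S : Subgroup G) ≤ centralizer {(y : G)} := by
  refine fun u hu => mem_centralizer_singleton_iff.2 ?_
  refine S0029.result (zpowers y.1) S (zpowers_le.2 y.2) ?_ (fun a ha k hk => ?_) (mem_zpowers _) u hu
  · obtain ⟨n, hn⟩ := (S.isPGroup'.to_subgroup (frattini S)).exists_card_eq
    rw [Nat.card_zpowers, orderOf_coe, hn]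
    exact (cop_pow ho n).symm
  · obtain ⟨i, rfl⟩ := (mem_powers_iff_mem_zpowers).2 ha
    refine map_mono (S0012.result p S.isPGroup').1 ((map_subtype_commutator _).ge ?_)
    have h6 := conj_mem (y ^ i) hk
    refine C.pre.ker _ (mul_mem h6 (inv_mem hk)) ?_
    have h7 := C.conj (y ^ i) k hk
    rw [map_pow, hy, one_pow, one_mulVec] at h7
    exact (C.pre.add _ h6 _ (inv_mem hk)).trans (by rw [h7, C.pre.inv hk, add_neg_cancel])

/-- powers -/
def pw (a : Q4) : ℕ → Q4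
  | 0 => (1, 0, 0, 1)
  | n + 1 => _root_.Cfsg.Agent.MO.S.M7.mul 3 a (pw a n)

theorem toQ_pow (A : M2 3) : ∀ n, toQ (A ^ n) = pw (toQ A) n
  | 0 => by rw [pow_zero, pw]; decide
  | n + 1 => by rw [pow_succ', toQ_mul, toQ_pow A n, pw]

/-- the words of `D₈` -/
def W8 : List (List Bool) := [[], [false], [false, false], [false, false, false], [true], [true, false],
  [true, false, false], [true, false, false, false]]

/-- the matrices of the words -/
def e8 (w : List Bool) : Q4 := ev 3 (2, 0, 0, 1) (0, 1, 2, 0) w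

/-- the group `SD₁₆` -/
def L16 : List Q4 := W8.map e8 ++ [(1, 1, 1, 2), (2, 2, 2, 1), (1, 2, 2, 2), (1, 2, 1, 1), (2, 1, 2, 2), (2, 1, 1, 1),
  (1, 1, 2, 1), (2, 2, 1, 2)]

private noncomputable def _root_.Cfsg.Agent.LsF.fdad93f_0 : {f // @Cfsg.Agent.MO.S.M7.allQ = f} := ⟨_, by first | (delta Cfsg.Agent.MO.S.M7.allQ; rewrite [Cfsg.Agent.LsF.map_eq, Cfsg.Agent.LsF.flatMap_eq, Cfsg.Agent.LsF.range_eq]; exact rfl) | exact rfl⟩
private noncomputable def _root_.Cfsg.Agent.LsF.fdad93f_1 : {f // @Cfsg.Agent.MO.S.M7.mul = f} := ⟨_, by first | (delta Cfsg.Agent.MO.S.M7.mul; rewrite [Cfsg.Agent.LsF.nadd_pat, Cfsg.Agent.LsF.nmul_pat, Cfsg.Agent.LsF.nmod_pat]; exact rfl) | exact rfl⟩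
private noncomputable def _root_.Cfsg.Agent.LsF.fdad93f_2 : {f // @Cfsg.Agent.MO.S.Two.pw = f} := ⟨_, by first | (delta Cfsg.Agent.MO.S.Two.pw Nat.brecOn.go Nat.brecOn Cfsg.Agent.MO.S.Two.pw._f; rewrite [Cfsg.Agent.LsF.fdad93f_1.2]; (try delta Cfsg.Agent.MO.S.Two.pw.match_1); (try delta Nat.casesOn); first | dsimp -zeta only | exact rfl) | exact rfl⟩
private noncomputable def _root_.Cfsg.Agent.LsF.fdad93f_3 : {f // @Cfsg.Agent.MO.S.Two.ev = f} := ⟨_, by first | (delta Cfsg.Agent.MO.S.Two.ev; rewrite [Cfsg.Agent.LsF.fdad93f_1.2, Cfsg.Agent.LsF.cond_eq, Cfsg.Agent.LsF.foldr_eq]; exact rfl) | exact rfl⟩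
private noncomputable def _root_.Cfsg.Agent.LsF.fdad93f_4 : {f // @Cfsg.Agent.MO.S.Two.e8 = f} := ⟨_, by first | (delta Cfsg.Agent.MO.S.Two.e8; rewrite [Cfsg.Agent.LsF.fdad93f_3.2]; exact rfl) | exact rfl⟩
private noncomputable def _root_.Cfsg.Agent.LsF.fdad93f_5 : {f // @Cfsg.Agent.MO.S.Two.L16 = f} := ⟨_, by first | (delta Cfsg.Agent.MO.S.Two.L16; rewrite [Cfsg.Agent.LsF.fdad93f_4.2, Cfsg.Agent.LsF.lappend_pat, Cfsg.Agent.LsF.map_eq]; exact rfl) | exact rfl⟩
theorem mem_L16 : ∀ a ∈ allQ 3, (∀ w ∈ W8, pw (_root_.Cfsg.Agent.MO.S.M7.mul 3 a (e8 w)) 16 = (1, 0, 0, 1)) → a ∈ L16 := by (refine of_decide_eq_true ?_; (try (rewrite [Cfsg.Agent.LsF.fdad93f_0.2, Cfsg.Agent.LsF.fdad93f_2.2, Cfsg.Agent.LsF.fdad93f_1.2, Cfsg.Agent.LsF.fdad93f_4.2, Cfsg.Agent.LsF.fdad93f_5.2, Cfsg.Agent.LsF.dProdEq_eq, Cfsg.Agent.LsF.dBAll_eq, Cfsg.Agent.LsF.dMem_eq, Cfsg.Agent.LsF.dAllP_eq, Cfsg.Agent.LsF.decide_eq])); decide +kernel)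

theorem comm_L16 : ∀ a ∈ L16, ∀ c ∈ L16, _root_.Cfsg.Agent.MO.S.M7.mul 3 c a = _root_.Cfsg.Agent.MO.S.M7.mul 3 a c → (∃ u ∈ L16, ∃ i < 8, ∃ j < 8, a = pw u i ∧ c = pw u j) ∨
    ∃ w ∈ W8, ∃ i < 2, ∃ j < 2, ∃ k < 2, ∃ l < 2, a = _root_.Cfsg.Agent.MO.S.M7.mul 3 (pw (e8 w) i) (pw (2, 0, 0, 2) k) ∧
      c = _root_.Cfsg.Agent.MO.S.M7.mul 3 (pw (e8 w) j) (pw (2, 0, 0, 2) l) := by
  have h : ∀ a ∈ L16, ∀ c ∈ L16, _root_.Cfsg.Agent.MO.S.M7.mul 3 c a = _root_.Cfsg.Agent.MO.S.M7.mul 3 a c → (∃ u ∈ L16, (∃ i < 8, a = pw u i) ∧ ∃ j < 8, c = pw u j) ∨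
      ∃ w ∈ W8, (∃ i < 2, ∃ k < 2, a = _root_.Cfsg.Agent.MO.S.M7.mul 3 (pw (e8 w) i) (pw (2, 0, 0, 2) k)) ∧
        ∃ j < 2, ∃ l < 2, c = _root_.Cfsg.Agent.MO.S.M7.mul 3 (pw (e8 w) j) (pw (2, 0, 0, 2) l) := by (refine of_decide_eq_true ?_; (try (rewrite [Cfsg.Agent.LsF.fdad93f_5.2, Cfsg.Agent.LsF.fdad93f_1.2, Cfsg.Agent.LsF.fdad93f_2.2, Cfsg.Agent.LsF.fdad93f_4.2, Cfsg.Agent.LsF.dProdEq_eq, Cfsg.Agent.LsF.instDecEq_eq, Cfsg.Agent.LsF.dAnd_eq, Cfsg.Agent.LsF.dOr_eq, Cfsg.Agent.LsF.dBAll_eq, Cfsg.Agent.LsF.dBEx_eq, Cfsg.Agent.LsF.dExistsLT_eq, Cfsg.Agent.LsF.dAllP_eq, Cfsg.Agent.LsF.decide_eq])); decide +kernel)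
  intro a ha c hc e
  rcases h a ha c hc e with ⟨u, hu, ⟨i, hi, e1⟩, j, hj, e2⟩ | ⟨w, hw, ⟨i, hi, k, hk, e1⟩, j, hj, l, hl, e2⟩
  exacts [Or.inl ⟨u, hu, i, hi, j, hj, e1, e2⟩, Or.inr ⟨w, hw, i, hi, j, hj, k, hk, l, hl, e1, e2⟩]

private noncomputable def _root_.Cfsg.Agent.LsF.fdad93f_6 : {f // @Cfsg.Agent.MO.S.M7.eqQ = f} := ⟨_, by first | (delta Cfsg.Agent.MO.S.M7.eqQ; rewrite [Cfsg.Agent.LsF.and_eq]; exact rfl) | exact rfl⟩
private noncomputable def _root_.Cfsg.Agent.LsF.fdad93f_7 : {f // @Cfsg.Agent.MO.S.M7.fix = f} := ⟨_, by first | (delta Cfsg.Agent.MO.S.M7.fix; rewrite [Cfsg.Agent.LsF.nadd_pat, Cfsg.Agent.LsF.nmul_pat, Cfsg.Agent.LsF.nmod_pat, Cfsg.Agent.LsF.and_eq]; exact rfl) | exact rfl⟩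
private noncomputable def _root_.Cfsg.Agent.LsF.fdad93f_8 : {f // @Cfsg.Agent.MO.S.Two.cntF = f} := ⟨_, by first | (delta Cfsg.Agent.MO.S.Two.cntF; rewrite [Cfsg.Agent.LsF.fdad93f_6.2, Cfsg.Agent.LsF.fdad93f_1.2, Cfsg.Agent.LsF.fdad93f_7.2, Cfsg.Agent.LsF.and_eq, Cfsg.Agent.LsF.map_eq, Cfsg.Agent.LsF.range_eq, Cfsg.Agent.LsF.sum_eq, Cfsg.Agent.LsF.dBoolEq_eq, Cfsg.Agent.LsF.ite_eq]; exact rfl) | exact rfl⟩
private noncomputable def _root_.Cfsg.Agent.LsF.fdad93f_9 : {f // @Cfsg.Agent.MO.S.M7.toQ = f} := ⟨_, by first | (delta Cfsg.Agent.MO.S.M7.toQ; rewrite [Cfsg.Agent.LsF.zval_eq]; exact rfl) | exact rfl⟩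
theorem loc_sd {S : Sylow 3 G} (C : Ch 3 (S : Subgroup G)) {g h z : NN (S : Subgroup G)} (hg : toQ (C.ρ g) = (2, 0, 0, 1))
    (hh : toQ (C.ρ h) = (0, 1, 2, 0)) (hc : Commute g (h ^ 2)) (hz : C.ρ z = 1) (hz' : (z : G) ∉ (S : Subgroup G))
    (hk : ∀ k, C.ρ k = 1 → (k : G) * z ∈ (S : Subgroup G) ∨ (k : G) ∈ (S : Subgroup G)) {k m : ℕ}
    (hG : Nat.card G = 3 ^ k * m) (hm : m % 3 = 2) : k0 3 (NN (S : Subgroup G)) = 18 := by
  let T := (S : Subgroup G).subgroupOf (NN S)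
  have : T.Normal := normal_in_normalizer
  have h1 : ∀ w, ∃ u, toQ (C.ρ u) = e8 w ∧ Commute u (h ^ 2) := fun w => by
    induction w with
    | nil => exact ⟨1, by rw [map_one]; decide, Commute.one_left _⟩
    | cons t w ih =>
      obtain ⟨u, h1, h2⟩ := ih
      cases t
      · exact ⟨h * u, by rw [map_mul, toQ_mul, h1, hh]; rfl, (Commute.self_pow h 2).mul_left h2⟩
      · exact ⟨g * u, by rw [map_mul, toQ_mul, h1, hg]; rfl, hc.mul_left h2⟩
  have h2 : T.relIndex C.ρ.toHomUnits.ker = 2 := relIndex_eq_two_iff_exists_notMem_and.2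
    ⟨z, Units.ext hz, hz', fun b hb => hk b (congrArg Units.val hb)⟩
  have h3 := relIndex_mul_index (H := T) (K := C.ρ.toHomUnits.ker) fun _ hg => Units.ext (C.rho_of_mem hg)
  have h4 := card_mod (S := S) (by rwa [card_syl S hG (by omega)])
  have h5 := idx_dvd C
  have h6 := Set.ncard_le_ncard (s := (W8.map e8).toFinset) (t := Set.range fun g => toQ (C.ρ g)) fun q hq => by
    obtain ⟨w, -, rfl⟩ := List.mem_map.1 (List.mem_toFinset.1 hq)
    exact (h1 w).imp fun _ => And.left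
  rw [card_range, Set.ncard_coe_finset, List.toFinset_card_of_nodup (by decide), show (W8.map e8).length = 8 from rfl] at h6
  have h7 : C.ρ.toHomUnits.ker.index = 16 := by
    rw [relIndex, ← h3, h2, hm] at h4
    generalize C.ρ.toHomUnits.ker.index = n at h4 h5 h6
    have h7 := Nat.le_of_dvd (by norm_num) h5
    interval_cases n <;> omega
  have h8 := Set.eq_of_subset_of_ncard_le (s := Set.range fun g => toQ (C.ρ g)) (t := L16.toFinset) (by
    rintro _ ⟨x, rfl⟩
    refine List.mem_toFinset.2 (mem_L16 _ (mem_allQ _) fun w _ => ?_)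
    obtain ⟨u, h8, -⟩ := h1 w
    rw [← h8, ← toQ_mul, ← toQ_pow, ← map_mul, ← map_pow, ← h7,
      show C.ρ ((x * u) ^ C.ρ.toHomUnits.ker.index) = 1 from congrArg Units.val (pow_index_mem C.ρ.toHomUnits.ker (x * u))]
    decide) (by
    rw [card_range, Set.ncard_coe_finset, h7]
    exact List.toFinset_card_le L16)
  have h9 : ∀ q, q ∈ L16 ↔ ∃ g, toQ (C.ρ g) = q := fun q => by
    rw [← List.mem_toFinset, ← Finset.mem_coe, ← h8]
    rfl
  let π := QuotientGroup.mk' T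
  have h10 : ∀ k, C.ρ k = 1 → ∀ x, Commute (π k) (π x) := fun k h10 x => by
    by_cases h11 : k ∈ T
    · rw [show π k = 1 from (QuotientGroup.eq_one_iff k).2 h11]
      exact Commute.one_left _
    have h12 : ∀ a, C.ρ a = 1 → a ∉ T → π a * π z = 1 := fun a ha hn =>
      (QuotientGroup.eq_one_iff (a * z)).2 ((hk a ha).resolve_right hn)
    have h13 := (h12 (x * k * x⁻¹) (by rw [map_mul, map_mul, h10, mul_one, ← map_mul, mul_inv_cancel, map_one])
      fun e => h11 (by simpa [mul_assoc] using ‹T.Normal›.conj_mem _ e x⁻¹)).trans (h12 k h10 h11).symm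
    rw [mul_left_inj, map_mul, map_mul, map_inv, mul_inv_eq_iff_eq_mul] at h13
    exact h13.symm
  have h11 : ∀ a a' c, toQ (C.ρ a) = toQ (C.ρ a') → Commute (π a') (π c) → Commute (π a) (π c) := fun a a' c e h11 => by
    rw [← mul_inv_cancel_left a' a, map_mul]
    exact h11.mul_left (h10 _ (by rw [map_mul, toQ_inj e, ← map_mul, inv_mul_cancel, map_one]) c)
  have h12 : ∀ a a' c c', toQ (C.ρ a) = toQ (C.ρ a') → toQ (C.ρ c) = toQ (C.ρ c') → Commute a' c' →
      Commute (π c) (π a) := fun a a' c c' e e' h12 => h11 _ _ _ e' (h11 _ _ _ e (h12.map π)).symm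
  obtain ⟨n, h13, h14⟩ := count C (β := 1) (fun _ => Iff.rfl) (B := 1) (fun u _ => (one_mulVec _).symm) (by decide +kernel) h9
    fun a a' c e h13 => by
    obtain rfl : a' = a := Subtype.ext e
    refine QuotientGroup.eq (s := T).1 ?_
    rcases comm_L16 _ ((h9 _).2 ⟨a', rfl⟩) _ ((h9 _).2 ⟨c, rfl⟩) (by
      rw [← toQ_mul, ← toQ_mul, ← map_mul, ← map_mul, h13]) with ⟨_, h14, i, -, j, -, h15, h16⟩ |
        ⟨w, -, i, -, j, -, k, -, l, -, h15, h16⟩
    · obtain ⟨u, rfl⟩ := (h9 _).1 h14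
      rw [← toQ_pow, ← map_pow] at h15 h16
      exact h12 _ _ _ _ h15 h16 (Commute.pow_pow_self u i j)
    · obtain ⟨u, h14, h17⟩ := h1 w
      rw [← h14, show (2, 0, 0, 2) = toQ (C.ρ (h ^ 2)) by rw [map_pow, toQ_pow, hh]; rfl, ← toQ_pow, ← toQ_pow, ← toQ_mul,
        ← map_pow, ← map_pow, ← map_mul] at h15 h16
      exact h12 _ _ _ _ h15 h16 (((Commute.pow_pow_self u i j).mul_right (h17.pow_pow i l)).mul_left
        ((h17.symm.pow_pow k j).mul_right (Commute.pow_pow_self _ k l)))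
  rw [relIndex, ← h3, h2, h7, show L16.length = 16 from rfl] at h13
  rw [fN_one, show L16.length = 16 from rfl, show cntF 3 (toQ (1 : M2 3)) L16 = 144 by (refine of_decide_eq_true ?_; (try (rewrite [Cfsg.Agent.LsF.fdad93f_8.2, Cfsg.Agent.LsF.fdad93f_9.2, Cfsg.Agent.LsF.fdad93f_5.2, Cfsg.Agent.LsF.instMOne_eq, Cfsg.Agent.LsF.instDecEq_eq, Cfsg.Agent.LsF.dFinEq_eq, Cfsg.Agent.LsF.decide_eq])); decide +kernel)] at h14
  omega

end Cfsg.Agent.MO.S.Two
end

-- part: MO/S/F42/Gen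
section
/-!
# MO, covers which split over the normaliser of a Sylow subgroup (helper33)

* `fB_split` : a subgroup which meets the centre trivially; `fB_sign` : an automorphism which acts by a sign;
* `card_norm` : an upper bound from the conjugates of an element and from cosets in its centraliser;
* `nf`, `nf_spec` : normal forms; `upB`, `up_card` : an ascending chain above the Sylow subgroup;
* `core`, `exists_syl` : the counts and the Sylow subgroup of the cover.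
-/

set_option autoImplicit false
set_option maxHeartbeats 400000

namespace Cfsg.Agent.MO.S.F42

open Cfsg Subgroup Cfsg.Agent.MO.T Cfsg.Agent.MO.S.Pc Cfsg.Agent.ODD.Red Cfsg.Agent.Characters Cfsg.Agent.Characters.Core
open Cfsg.Agent.MK (Ov)
open Cfsg.Agent.MK.S.Pc (ev ev_nil ev_cons ev_append V mem_V V_le V_mono ev_mem conj_V inR inR_mem)
open Cfsg.Agent.MK.T (stab_of_le)
open Cfsg.Agent.MO.L (Loc Mt chkM idM fN_card_of_chk)
open scoped commutatorElement Pointwise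

variable {p : ℕ} {Y S : Type} [Group Y] [Group S]

/-! ### characters -/

theorem fB_twist (K : Subgroup Y) (μ : K →* ℂˣ) {l : Y → ℂ} (h : ∀ z : K, (z : Y) ∈ center Y → l z = μ z) {α : MulAut Y}
    (hμ : ∀ y y' : K, (y' : Y) = α y → μ y' = μ y) : fB p K l α = fB p K (fun _ => 1) α :=
  Nat.card_congr
    { toFun := fun ψ => ⟨fun x => (μ⁻¹ x : ℂ) * ψ.1 x, Up.pi_lin_mul _ ψ.2.1, fun z hz => by
        beta_reduce
        rw [ψ.2.2.1 z hz, h z hz]
        simp only [_root_.MonoidHom.inv_apply, _root_.Units.val_inv_eq_inv_val, _root_.ne_eq, _root_.Units.ne_zero, _root_.not_false_eq_true, _root_.inv_mul_cancel_left₀, _root_.map_one, _root_.inv_one, _root_.Units.val_one, _root_.one_mul], fun y y' e => by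
        beta_reduce
        rw [ψ.2.2.2 y y' e, MonoidHom.inv_apply, MonoidHom.inv_apply, hμ y y' e]⟩
      invFun := fun ψ => ⟨fun x => (μ x : ℂ) * ψ.1 x, Up.pi_lin_mul _ ψ.2.1, fun z hz => by
        beta_reduce
        rw [ψ.2.2.1 z hz, h z hz]
        simp, fun y y' e => by
        beta_reduce
        rw [ψ.2.2.2 y y' e, hμ y y' e]⟩
      left_inv := fun ψ => Subtype.ext (funext fun x => by simp)
      right_inv := fun ψ => Subtype.ext (funext fun x => by simp) }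

/-- **a subgroup which meets the centre trivially** -/
theorem fB_split [Finite Y] {φ : Y →* S} (hk : φ.ker = center Y) {K : Subgroup Y}
    (hK : Nat.card K ≤ Nat.card (K.map φ)) {α : MulAut Y} {β : MulAut S} (h : ∀ x, φ (α x) = β (φ x))
    (hz : ∀ z ∈ center Y, α z = z) (hα : ∀ x ∈ K, α x ∈ K) {l : Y → ℂ} (hl : Fl Y l) :
    fB p ((K.map φ).comap φ) l α = fN p (K.map φ) β := by
  obtain ⟨ν, -, hν⟩ := hl
  have h1 := ((Nat.bijective_iff_surjective_and_card _).2 ⟨φ.subgroupMap_surjective K,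
    le_antisymm hK (Nat.card_le_card_of_surjective _ (φ.subgroupMap_surjective K))⟩).1
  have inj : ∀ a ∈ K, ∀ b ∈ K, φ a = φ b → a = b := fun a ha b hb e =>
    congrArg Subtype.val (h1 (a₁ := ⟨a, ha⟩) (a₂ := ⟨b, hb⟩) (Subtype.ext e))
  choose r h2 h3 using fun u : (K.map φ).comap φ => mem_map.1 (mem_comap.1 u.2)
  have h4 : ∀ u : (K.map φ).comap φ, (u : Y) * (r u)⁻¹ ∈ center Y := fun u =>
    hk.le (by rw [MonoidHom.mem_ker, map_mul, map_inv, h3, mul_inv_cancel])
  let c : (K.map φ).comap φ →* center Y := MonoidHom.mk' (fun u => ⟨_, h4 u⟩) fun u v => Subtype.ext (by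
    have h5 : r (u * v) = r u * r v := inj _ (h2 _) _ (mul_mem (h2 _) (h2 _)) (by rw [map_mul, h3, h3, h3, coe_mul, map_mul])
    change (u : Y) * v * (r (u * v))⁻¹ = u * (r u)⁻¹ * (v * (r v)⁻¹)
    rw [h5, mul_assoc (u : Y) (r u)⁻¹, mem_center_iff.1 (h4 v)]
    group)
  rw [fB_twist _ (ν.comp c) (fun z hz => (hν ⟨z, hz⟩).trans (congrArg (fun x => (ν x : ℂ)) (Subtype.ext ?_)))
    fun y y' e => congrArg ν (Subtype.ext ?_), fB_ker φ hk _ h fun x hx => ?_, map_comap_eq_self (map_le_range φ K)]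
  · obtain ⟨a, ha, e⟩ := hx
    exact ⟨α a, hα a ha, by rw [h, h, e]⟩
  · change (z : Y) = z * (r z)⁻¹
    rw [inj _ (h2 z) _ (one_mem K) ((h3 z).trans ((hk.ge hz).trans (map_one φ).symm)), inv_one, mul_one]
  · change (y' : Y) * (r y')⁻¹ = y * (r y)⁻¹
    rw [inj _ (h2 y') _ (hα _ (h2 y)) (by rw [h3, h, h3, e, h]), e, ← map_inv, ← map_mul, hz _ (h4 y)]

/-- **an automorphism which acts by a sign** -/
theorem fB_sign [Finite Y] [Fact p.Prime] (hp : p ≠ 2) {K U : Subgroup Y} (hKU : K ≤ U) (hi : K.relIndex U = 2)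
    (hZ : center Y ≤ K) {α : MulAut Y} (h0 : ∀ u ∈ K, α u = u) {a z : Y} (ha : a ∈ U) (hz : z ∈ center Y)
    (h1 : α a = z * a) {l : Y → ℂ} (hl : l z = -1) (h2 : z ≠ 1) :
    2 * kk p K (center Y) l = kk p U (center Y) l + 3 * fB p U l α := by
  rw [kk_sign hp hKU hi (fun z hz u _ => mem_center_iff.1 hz u) hZ l]
  congr 2
  have h3 : a ∉ K := fun e => h2 (mul_eq_right.1 (h1.symm.trans (h0 a e)))
  have h4 : ∀ u : U, (u : Y) ∉ K → α u = z * u := fun u hu => by
    have h5 : (u : Y) * a⁻¹ ∈ K := (mul_mem_iff_of_index_two hi (a := u) (b := ⟨a, ha⟩⁻¹)).2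
      (iff_of_false hu fun e => h3 (inv_mem_iff.1 e))
    rw [← inv_mul_cancel_right (u : Y) a, map_mul, h0 _ h5, h1, ← mul_assoc, mem_center_iff.1 hz, mul_assoc]
  refine card_iff fun χ hχ => and_congr_right fun h5 => ?_
  obtain ⟨c, hc, -⟩ := exists_central hχ.1 (z := ⟨z, hKU (hZ hz)⟩) (mem_center_iff.2 fun y => Subtype.ext (mem_center_iff.1 hz y))
  have h6 : c = -1 := mul_right_cancel₀ (isIrr_apply_one_ne_zero hχ.1) (by rw [← hc, mul_one, h5 _ hz, hl])
  refine ⟨fun h7 y y' e => ?_, fun h7 u hu => ?_⟩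
  · by_cases hy : (y : Y) ∈ K
    · rw [show y' = y from Subtype.ext (e.trans (h0 _ hy))]
    · rw [show y' = ⟨z, hKU (hZ hz)⟩ * y from Subtype.ext (e.trans (h4 y hy)), hc, h7 y hy, mul_zero]
  · have h8 := h7 u (⟨z, hKU (hZ hz)⟩ * u) (h4 u hu).symm
    rw [hc, h6] at h8
    linear_combination (-1 / 2) * h8

/-! ### bounds -/

section bd

variable {Γ : Type} [Group Γ] [Finite Γ] {g : ℕ → Γ} {n m : ℕ}

/-- **the bound from a centraliser** -/
theorem card_norm {N : Subgroup Γ} {z : Γ} {O : List Γ} (hO : ∀ a ∈ N, a * z * a⁻¹ ∈ O) {gs : List Γ}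
    (hg : ∀ a ∈ gs, a * z = z * a) (hp : gs.Pairwise fun a b => a⁻¹ * b ∉ N) :
    Nat.card N * gs.length ≤ O.length * Nat.card (centralizer ({z} : Set Γ)) := by
  have h1 : Nat.card N ≤ O.length * Nat.card (N ⊓ centralizer ({z} : Set Γ) : Subgroup Γ) := by
    rw [← ((centralizer ({z} : Set Γ)).subgroupOf N).card_mul_index, mul_comm, ← inf_subgroupOf_left,
      Nat.card_congr (subgroupOfEquivOfLe inf_le_left).toEquiv]
    refine Nat.mul_le_mul_right _ ?_
    choose f hf using fun a : N => List.getElem_of_mem (hO a a.2)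
    refine (Nat.card_le_card_of_injective (fun c => (⟨f c.out, (hf _).1⟩ : Fin O.length)) fun a b e => ?_).trans
      (Nat.card_fin _).le
    rw [← a.out_eq', ← b.out_eq']
    refine QuotientGroup.eq.2 ⟨(a.out⁻¹ * b.out).2, mem_centralizer_singleton_iff.2 ?_⟩
    have h2 : (a.out : Γ) * z * (a.out : Γ)⁻¹ = b.out * z * (b.out : Γ)⁻¹ := by
      rw [← (hf a.out).2, ← (hf b.out).2]
      simp only [show f a.out = f b.out from congrArg Fin.val e]
    change (a.out : Γ)⁻¹ * b.out * z = z * ((a.out : Γ)⁻¹ * b.out)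
    calc _ = (a.out : Γ)⁻¹ * (b.out * z * (b.out : Γ)⁻¹) * b.out := by group
      _ = _ := by rw [← h2]; group
  have h2 := Nat.card_le_card_of_injective (fun u : (N ⊓ centralizer ({z} : Set Γ) : Subgroup Γ) × Fin gs.length =>
    (⟨gs[(u.2 : ℕ)] * u.1, mul_mem (mem_centralizer_singleton_iff.2 (hg _ (List.getElem_mem _))) u.1.2.2⟩ :
      centralizer ({z} : Set Γ))) fun u v e => by
    have e1 : gs[(u.2 : ℕ)] * (u.1 : Γ) = gs[(v.2 : ℕ)] * v.1 := congrArg Subtype.val e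
    have e2 : gs[(u.2 : ℕ)]⁻¹ * gs[(v.2 : ℕ)] ∈ N := by
      rw [show gs[(u.2 : ℕ)]⁻¹ * gs[(v.2 : ℕ)] = u.1 * (v.1 : Γ)⁻¹ by
        rw [inv_mul_eq_iff_eq_mul, ← mul_assoc, e1, mul_inv_cancel_right]]
      exact mul_mem u.1.2.1 (inv_mem v.1.2.1)
    have e3 : (u.2 : ℕ) = v.2 := by
      rcases lt_trichotomy (u.2 : ℕ) v.2 with h | h | h
      · exact absurd e2 (List.pairwise_iff_getElem.1 hp _ _ _ _ h)
      · exact h
      · exact absurd (by simpa using inv_mem e2) (List.pairwise_iff_getElem.1 hp _ _ _ _ h)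
    simp only [e3] at e1
    exact Prod.ext (Subtype.ext (mul_left_cancel e1)) (Fin.ext e3)
  rw [Nat.card_prod, Nat.card_fin] at h2
  exact (Nat.mul_le_mul_right _ h1).trans (by rw [mul_assoc]; exact Nat.mul_le_mul_left _ h2)

/-- the normal forms of the last `d` members -/
def nf (p n d : ℕ) : List (List ℕ) :=
  Nat.rec [[]] (fun k ih => (List.range p).flatMap fun e => ih.map fun u => u ++ List.replicate e (n - (k + 1))) d

theorem nf_spec (h : PC p g n m) : ∀ d ≤ n, ∀ a ∈ V g n (n - d), ∃ u ∈ nf p n d, ev g u = a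
  | 0, _, a, ha => ⟨[], List.mem_singleton.2 rfl, (mem_bot.1 (V_le (H := ⊥) (fun i h1 h2 => by omega) ha)).symm⟩
  | d + 1, hd, a, ha => by
    have h1 : n - (d + 1) + 1 = n - d := by omega
    have h2 : zpowers (g (n - (d + 1))) ≤ normalizer (V g n (n - d) : Set Γ) :=
      zpowers_le.2 (mem_normalizer_fintype fun x hx => conj_V (fun j h3 h4 => by
        rw [show ∀ a b : Γ, a * b * a⁻¹ = ⁅a, b⁆ * b from fun a b => by rw [commutatorElement_def]; group]
        exact mul_mem (V_mono (h1 ▸ le_max_right _ _) (h.cm _ j (by omega) h4)) (mem_V h3 h4)) hx)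
    have h3 : a ∈ ((V g n (n - d) ⊔ zpowers (g (n - (d + 1))) : Subgroup Γ) : Set Γ) := V_le (fun i h3 h4 => by
      rcases h3.eq_or_lt with rfl | h5
      · exact mem_sup_right (mem_zpowers _)
      · exact mem_sup_left (mem_V (by omega) h4)) ha
    rw [coe_mul_of_right_le_normalizer_left _ _ h2] at h3
    obtain ⟨w, hw, b, hb, rfl⟩ := h3
    obtain ⟨k, rfl⟩ := (mem_powers_iff_mem_zpowers.2 hb :)
    obtain ⟨u, h4, h5⟩ := nf_spec h d (by omega) _ (mul_mem hw (pow_mem (h1 ▸ h.pw _ (by omega)) (k / p)))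
    refine ⟨_, List.mem_flatMap.2 ⟨k % p, List.mem_range.2 (Nat.mod_lt _ h.pos), List.mem_map_of_mem h4⟩, ?_⟩
    rw [ev_append, h5, ev_replicate, mul_assoc, ← pow_mul, ← pow_add, Nat.div_add_mod]

omit [Finite Γ] in
theorem comm_V {k : ℕ} (h : ∀ i j, k ≤ i → i < j → j < n → Commute (g i) (g j)) {a b : Γ} (ha : a ∈ V g n k)
    (hb : b ∈ V g n k) : Commute a b :=
  (mem_centralizer_singleton_iff.1 (V_le (H := centralizer {b}) (fun i h1 h2 => mem_centralizer_singleton_iff.2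
    (mem_centralizer_singleton_iff.1 (V_le (H := centralizer {g i}) (fun j h3 h4 => mem_centralizer_singleton_iff.2 (by
      rcases lt_trichotomy i j with e | rfl | e
      exacts [(h i j h1 e h4).eq.symm, rfl, (h j i h3 e h2).eq])) hb)).symm) ha) :)

omit [Finite Γ] in
theorem comm_of_chk {eqv : List ℕ → List ℕ → Bool} (he : ∀ v w, eqv v w = true → ev g v = ev g w) {c : Cert}
    (h : chk eqv p n m c = true) {k : ℕ} (hk : ∀ j < n, ∀ i < j, k ≤ i → (c.cm.getD i []).getD j [] = []) :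
    ∀ a ∈ V g n k, ∀ b ∈ V g n k, Commute a b := fun _ ha _ hb => comm_V (fun i j e1 e2 e3 =>
  commutatorElement_eq_one_iff_commute.1 (by rw [chk_cm he h e2 e3, hk j e3 i e2 e1, ev_nil])) ha hb

/-- a member above the Sylow subgroup : relative order, power, matrix, conjugates -/
structure Ut where
  r : ℕ
  pw : List ℕ
  R : List (List ℕ)
  cj : List (List ℕ)

/-- a member of the list -/
def ug (up : List Ut) (i : ℕ) : Ut := up.getD i ⟨0, [], [], []⟩

/-- the check of the chain -/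
def upB (eqv : List ℕ → List ℕ → Bool) (n : ℕ) (up : List Ut) : Bool :=
  (List.range up.length).all fun i => Nat.blt 0 (ug up i).r && inR 0 (n + i) (ug up i).pw &&
    eqv (List.replicate (ug up i).r (n + i)) (ug up i).pw && nrm eqv n [n + i] (ug up i).R &&
    (List.range i).all fun j => inR 0 (n + i) ((ug up i).cj.getD j []) &&
      eqv [n + i, n + j] ((ug up i).cj.getD j [] ++ [n + i])

/-- the order of the factor group -/
def ord (up : List Ut) (i : ℕ) : ℕ := ((List.range i).map fun j => (ug up j).r).prod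

omit [Finite Γ] in
theorem V_up {a b : ℕ} (h : a ≤ b) : V g a 0 ≤ V g b 0 := V_le fun _ h1 h2 => mem_V h1 (h2.trans_le h)

variable {eqv : List ℕ → List ℕ → Bool} (he : ∀ v w, eqv v w = true → ev g v = ev g w) {up : List Ut}
  (h : upB eqv n up = true)

include h in
omit [Finite Γ] in
theorem up_nrm {i : ℕ} (hi : i < up.length) : nrm eqv n [n + i] (ug up i).R = true := by
  simp only [upB, Bool.and_eq_true, List.all_eq_true, List.mem_range] at h
  exact (h i hi).1.2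

include he h

theorem up_card : ∀ i ≤ up.length, Nat.card (V g (n + i) 0) ≤ Nat.card (V g n 0) * ord up i
  | 0, _ => (mul_one _).ge
  | i + 1, hi => by
    have h0 := up_nrm h hi
    have h1 := up_card i (by omega)
    simp only [upB, Bool.and_eq_true, List.all_eq_true, List.mem_range, Nat.blt_eq] at h
    obtain ⟨⟨⟨⟨h2, h3⟩, h4⟩, -⟩, h5⟩ := h i hi
    rw [ord, List.range_succ, List.map_append, List.prod_append, List.map_singleton, List.prod_singleton, ← mul_assoc,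
      mul_comm]
    refine (card_ext h2 (W := V g (n + i) 0) (a := g (n + i)) ?_ (fun x hx => conj_V (fun j _ hj => ?_) hx)
      (V_le fun j _ hj => ?_)).trans (Nat.mul_le_mul_left _ h1)
    · rw [← ev_replicate, he _ _ h4]
      exact inR_mem h3
    · rcases lt_or_ge j n with h6 | h6
      · have h7 := nrm_conj he h0 h6
        rw [ev_cons, ev_nil, mul_one] at h7
        exact V_up (Nat.le_add_right n i) (h7.2 ▸ pwd_mem h7.1)
      · obtain ⟨j, rfl⟩ := Nat.exists_eq_add_of_le h6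
        have h7 := he _ _ (h5 j (by omega)).2
        simp only [ev_append, ev_cons, ev_nil, mul_one] at h7
        rw [h7, mul_inv_cancel_right]
        exact inR_mem (h5 j (by omega)).1
    · rcases (Nat.le_of_lt_succ hj).eq_or_lt with rfl | h6
      · exact mem_sup_right (mem_zpowers _)
      · exact mem_sup_left (mem_V (Nat.zero_le _) h6)

theorem up_norm {i : ℕ} (hi : i ≤ up.length) : V g (n + i) 0 ≤ normalizer (V g n 0 : Set Γ) :=
  V_le fun j _ hj => by
    rcases lt_or_ge j n with h6 | h6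
    · exact le_normalizer (mem_V (Nat.zero_le _) h6)
    · obtain ⟨j, rfl⟩ := Nat.exists_eq_add_of_le h6
      have h7 := nrm_mem he (up_nrm h (i := j) (by omega))
      rwa [ev_cons, ev_nil, mul_one] at h7

end bd

/-! ### the cover -/

section cov

variable [Finite Y] {φ : Y →* S} {gY : ℕ → Y} {g : ℕ → S} (hg : ∀ i, φ (gY i) = g i) {n m : ℕ}

include hg

omit [Finite Y] in
theorem map_V (n k : ℕ) : (V gY n k).map φ = V g n k := by
  rw [V, MonoidHom.map_closure, Set.image_image, funext hg, V]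

omit [Finite Y] in
theorem map_ev : ∀ w, φ (ev gY w) = ev g w
  | [] => map_one φ
  | a :: w => by rw [ev_cons, ev_cons, map_mul, hg, map_ev w]

theorem card_V (n k : ℕ) : Nat.card (V g n k) ≤ Nat.card (V gY n k) :=
  map_V hg n k ▸ Nat.card_le_card_of_surjective _ (φ.subgroupMap_surjective _)

/-- **the Sylow subgroup of the cover** -/
theorem exists_syl [Fact p.Prime] (h : Cv 2 φ) (hp : p ≠ 2) (pc : PC p gY n m) (hc : p ^ n ≤ Nat.card (V g n 0)) {o : ℕ}
    (hS : Nat.card S = p ^ n * o) (ho : ¬ p ∣ o) : ∃ Q : Sylow p Y, (Q : Subgroup Y) = V gY n 0 ∧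
      normalizer ((Q : Subgroup Y) : Set Y) = (normalizer (V g n 0 : Set S)).comap φ := by
  obtain ⟨Q, hQ⟩ := pc.sylow (o := 2 * o) (hc.trans (card_V hg n 0)) (by
    rw [← φ.ker.card_mul_index, index_ker, h.ker, h.card, MonoidHom.range_eq_top.2 h.surj, card_top, hS]
    ring) (nd_mul' (fun e => hp ((Nat.prime_dvd_prime_iff_eq Fact.out Nat.prime_two).1 e)) ho)
  exact ⟨Q, hQ, by rw [← map_V hg, ← hQ, ← map_normalizer φ h.surj, comap_map_eq, h.ker,
    sup_of_le_left (center_le_normalizer _)]⟩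

/-- **the count** -/
theorem core [Fact p.Prime] (hs : Function.Surjective φ) (hk : φ.ker = center Y) {eqv : List ℕ → List ℕ → Bool}
    (he : ∀ v w, eqv v w = true → ev gY v = ev gY w) {c : Cert} (h1 : chk eqv p n m c = true) (h2 : expC n m c = true)
    (hc : p ^ n ≤ Nat.card (V g n 0)) {up : List Ut} (h3 : upB eqv n up = true) {i : ℕ} (hi : i ≤ up.length)
    {α : MulAut Y} {β : MulAut S} (hβ : ∀ x, φ (α x) = β (φ x)) (hz : ∀ z ∈ center Y, α z = z)
    (hQ : ∀ j < n, α (gY j) ∈ V gY n 0) (hK : ∀ j < n + i, α (gY j) ∈ V gY (n + i) 0) {M : List (List ℕ)}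
    (hM : Mt m (V g n 0) g β M) {prog : List ℕ} {r : ℕ}
    (h4 : chkM p m ((List.range i).map fun j => (ug up j).R) M prog (ord up i) r = true) :
    Nat.card (V g (n + i) 0) = p ^ n * ord up i ∧ ∀ l, Fl Y l → fB p ((V g (n + i) 0).comap φ) l α = r := by
  have : Finite S := Finite.of_surjective φ hs
  have he' : ∀ v w, eqv v w = true → ev g v = ev g w := fun v w e => by rw [← map_ev hg, ← map_ev hg, he v w e]
  have pc := pc_of_chk he' h1
  have h5 := pc.card_zero hc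
  have h6 : Nat.card (V gY (n + i) 0) ≤ Nat.card (V g n 0) * ord up i :=
    (up_card he h3 i hi).trans (Nat.mul_le_mul_right _ (h5 ▸ (pc_of_chk he h1).card_le (Nat.zero_le n)))
  have st : ∀ k, (∀ j < k, α (gY j) ∈ V gY k 0) → (∀ x ∈ V gY k 0, α x ∈ V gY k 0) ∧ ∀ x, β x ∈ V g k 0 ↔ x ∈ V g k 0 :=
    fun k e => by
    have e1 : ∀ x ∈ V gY k 0, α x ∈ V gY k 0 := V_le (H := (V gY k 0).comap α.toMonoidHom) fun j _ => e j
    refine ⟨e1, stab_of_le ?_⟩
    rw [← map_V hg]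
    rintro _ ⟨x, hx, rfl⟩
    exact ⟨_, e1 x hx, hβ x⟩
  obtain ⟨h7, h8⟩ := fN_card_of_chk (p := p) (d := m) (Q := V g n 0) (N := V g (n + i) 0) (q := g)
    ⟨IsPGroup.of_card h5, fun j hj => mem_V (Nat.zero_le _) (hj.trans_le pc.le),
      fun j hj => exp_of_chk he' h1 h2 _ (mem_V (Nat.zero_le _) (hj.trans_le pc.le)), fun H => pc.gen, pc.relIndex hc⟩
    (V_up (Nat.le_add_right n i)) (up_norm he' h3 hi) ((card_V hg _ 0).trans h6)
    (List.forall_mem_map.2 fun j hj => ⟨g (n + j), mem_V (Nat.zero_le _) (by simpa using hj), fun k hk => by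
      have h7 := nrm_mod he' (up_nrm h3 ((List.mem_range.1 hj).trans_le hi)) m (hk.trans_le pc.le)
      rwa [ev_cons, ev_nil, mul_one, ← pc.comm_eq] at h7⟩) (st n hQ).2 (st _ hK).2 hM h4
  refine ⟨h5 ▸ h8, fun l hl => ?_⟩
  rw [← h7, ← map_V hg]
  exact fB_split hk (by rwa [map_V hg, h8]) hβ hz (st _ hK).1 hl

end cov

end Cfsg.Agent.MO.S.F42
end

-- part: MO/S/F42/Cov
section
/-!
# MO, the double cover of `F₄(2)` : words in the canonical lifts (helper33)

* `W h w` : the lift of the word `w`; `zc h` : the central involution;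
* `W_eq` : the sign of a relation is read off from one row of the matrices of dimension 52;
* `exists_gam` : the lift of the graph automorphism; `outC`.
-/

set_option autoImplicit false
set_option maxRecDepth 10000
set_option maxHeartbeats 400000

namespace Cfsg.Agent.MO.S.F42

open Cfsg Subgroup Cfsg.Agent.MO.T Cfsg.Agent.FourTwo.Base Cfsg.Agent.FourTwo.Lift
open Cfsg.Agent.FourTwo.Comm (cmg)
open Cfsg.Agent.FourTwo.CentAll (isShort)
open Cfsg.Agent.FourTwo.AutF4 (gam gam_x mulAut_gam)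
open Cfsg.Agent.F42.RelTab (all2 all2_spec)
open Cfsg.Agent.Lib.PackMat Cfsg.Agent.Lib.PackMatGroup
open Cfsg.Agent.H65.F4T (C L sg Mt X_sq X_rel coe_X okA good one_lt cw_map)

variable {Y : Type} [Group Y] {φ : Y →* LL}

theorem ext_of (h : Cv 2 φ) : _root_.Cfsg.Agent.FourTwo.Lift.Ext φ :=
  ⟨h.surj, fun _ hm g => (mem_center_iff.1 (h.ker.le hm) g).symm⟩

/-- the central involution -/
noncomputable def zc (h : Cv 2 φ) : Y := (ext_of h).m₀

/-- the lift of a word -/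
noncomputable def W (h : Cv 2 φ) (w : List ℕ) : Y := wA (ext_of h).A w

variable (h : Cv 2 φ)

theorem mem_cen {z : Y} : z ∈ center Y ↔ z = 1 ∨ z = zc h :=
  ⟨fun hz => FourTwo.Mult.ker_two (ext_of h) h.perf (h.ker.ge hz), fun hz => by
    rcases hz with rfl | rfl
    exacts [one_mem _, h.ker.le (ext_of h).map_m₀]⟩

theorem zc_cen : zc h ∈ center Y := (mem_cen h).2 (.inr rfl)

theorem zc_sq : zc h * zc h = 1 := (ext_of h).m₀_sq

theorem zc_ne : zc h ≠ 1 := fun e => by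
  have h1 : center Y = ⊥ := eq_bot_iff.2 fun z hz => mem_bot.2 (((mem_cen h).1 hz).elim id fun h2 => h2.trans e)
  have h2 := h.card
  rw [h1, card_bot] at h2
  omega

theorem W_append (v w : List ℕ) : W h (v ++ w) = W h v * W h w := wA_append _ _ _

theorem map_W : ∀ {w : List ℕ}, (∀ r ∈ w, r < 48) → φ (W h w) = wd w
  | [], _ => map_one φ
  | r :: w, hw => by
    rw [W, wA_cons, map_mul, wd_cons, (ext_of h).map_A (hw r List.mem_cons_self)]
    exact congrArg _ (map_W fun s hs => hw s (List.mem_cons_of_mem _ hs))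

theorem W_rev : ∀ {w : List ℕ}, (∀ r ∈ w, r < 48) → W h w.reverse = (W h w)⁻¹
  | [], _ => inv_one.symm
  | r :: w, hw => by
    rw [List.reverse_cons, W_append, W_rev fun s hs => hw s (List.mem_cons_of_mem _ hs), W, W, W, wA_cons, wA_cons,
      wA_nil, mul_one, mul_inv_rev, (ext_of h).A_inv (hw r List.mem_cons_self)]

/-! ### the matrices -/

/-- a sign -/
noncomputable def sn (b : Bool) : U C := if b then -1 else 1

theorem sn_cen (b : Bool) (g : U C) : sn b * g = g * sn b := by cases b <;> simp [sn]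

theorem sn_xor (a b : Bool) : sn (xor a b) = sn a * sn b := by cases a <;> cases b <;> simp [sn]

/-- the matrices of the canonical lifts -/
noncomputable def Bm (r : ℕ) : U C := sn (isShort r) * H65.F4T.X r

/-- the parity of the number of the short letters -/
def par (w : List ℕ) : Bool := List.rec false (fun r _ ih => xor (isShort r) ih) w

theorem wA_Bm : ∀ w : List ℕ, wA Bm w = sn (par w) * (w.map H65.F4T.X).prod
  | [] => by simp [par, sn]
  | r :: w => by
    rw [wA_cons, wA_Bm w, show par (r :: w) = xor (isShort r) (par w) from rfl, sn_xor, List.map_cons, List.prod_cons, Bm,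
      mul_assoc, mul_assoc, ← mul_assoc (H65.F4T.X r), ← sn_cen, mul_assoc]

private noncomputable def _root_.Cfsg.Agent.LsF.fdad93f_10 : {f // @Cfsg.Agent.F42.RelTab.all2 = f} := ⟨_, by first | (delta Cfsg.Agent.F42.RelTab.all2; rewrite [Cfsg.Agent.LsF.all_eq, Cfsg.Agent.LsF.range_eq]; exact rfl) | exact rfl⟩
private noncomputable def _root_.Cfsg.Agent.LsF.fdad93f_11 : {f // @Cfsg.Agent.FourTwo.CentAll.isShort = f} := ⟨_, by first | (delta Cfsg.Agent.FourTwo.CentAll.isShort; rewrite [Cfsg.Agent.LsF.instNBEq_pat, Cfsg.Agent.LsF.contains_eq]; exact rfl) | exact rfl⟩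
private noncomputable def _root_.Cfsg.Agent.LsF.fdad93f_12 : {f // @Cfsg.Agent.MO.S.F42.par = f} := ⟨_, by first | (delta Cfsg.Agent.MO.S.F42.par; rewrite [Cfsg.Agent.LsF.fdad93f_11.2, Cfsg.Agent.LsF.bxor_eq]; exact rfl) | exact rfl⟩
private noncomputable def _root_.Cfsg.Agent.LsF.fdad93f_13 : {f // @Cfsg.Agent.ChevalleyStructure.TwF4.Tables.nth = f} := ⟨_, by first | (delta Cfsg.Agent.ChevalleyStructure.TwF4.Tables.nth List.brecOn List.brecOn.go Cfsg.Agent.ChevalleyStructure.TwF4.Tables.nth._f; (try delta Cfsg.Agent.ChevalleyStructure.TwF4.Tables.nth.match_1); (try delta List.casesOn Nat.casesOn); first | dsimp -zeta only | exact rfl) | exact rfl⟩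
private noncomputable def _root_.Cfsg.Agent.LsF.fdad93f_14 : {f // @Cfsg.Agent.ChevalleyStructure.TwF4.Rel.nth2 = f} := ⟨_, by first | (delta Cfsg.Agent.ChevalleyStructure.TwF4.Rel.nth2 List.brecOn List.brecOn.go Cfsg.Agent.ChevalleyStructure.TwF4.Rel.nth2._f; (try delta Cfsg.Agent.ChevalleyStructure.TwF4.Rel.nth2.match_1); (try delta List.casesOn Nat.casesOn); first | dsimp -zeta only | exact rfl) | exact rfl⟩
private noncomputable def _root_.Cfsg.Agent.LsF.fdad93f_15 : {f // @Cfsg.Agent.FourTwo.Comm.cmg = f} := ⟨_, by first | (delta Cfsg.Agent.FourTwo.Comm.cmg; rewrite [Cfsg.Agent.LsF.fdad93f_13.2, Cfsg.Agent.LsF.fdad93f_14.2]; exact rfl) | exact rfl⟩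
theorem sg_tab : all2 (fun r s => (Nat.beq r s || Nat.beq (r + s) 47) ||
    (xor (sg r s) (par (cmg r s)) == Nat.beq (cmg r s).length 2) && (cmg r s).all fun c => Nat.blt c 48) = true := by
  ((try (rewrite [Cfsg.Agent.LsF.fdad93f_10.2, Cfsg.Agent.LsF.fdad93f_12.2, Cfsg.Agent.LsF.fdad93f_15.2, Cfsg.Agent.LsF.nadd_pat, Cfsg.Agent.LsF.bbeq_pat, Cfsg.Agent.LsF.and_eq, Cfsg.Agent.LsF.or_eq, Cfsg.Agent.LsF.all_eq, Cfsg.Agent.LsF.bxor_eq, Cfsg.Agent.LsF.length_eq])); decide +kernel)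

theorem Bm_rel {r s : ℕ} (hr : r < 48) (hs : s < 48) (h1 : r ≠ s) (h2 : r + s ≠ 47) :
    Bm r * Bm s = sn (Nat.beq (cmg r s).length 2) * (Bm s * wA Bm (cmg r s) * Bm r) := by
  have h3 := all2_spec sg_tab hr hs
  simp only [Bool.or_eq_true, Nat.beq_eq, h1, h2, false_or, Bool.and_eq_true, beq_iff_eq] at h3
  have h4 := X_rel hr hs h1 h2
  rw [← h3.1, wA_Bm, Bm, Bm, mul_assoc, ← mul_assoc (H65.F4T.X r), ← sn_cen, mul_assoc, h4]
  generalize isShort r = a, isShort s = b, sg r s = c, par (cmg r s) = d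
  cases a <;> cases b <;> cases c <;> cases d <;> simp [sn, mul_assoc]

theorem neg_ne : (-1 : U C) ≠ 1 := fun e => by
  have h1 := congrArg (fun g : U C => (g : M C) ⟨0, by decide⟩ ⟨0, by decide⟩) e
  simp only [Units.val_neg, Units.val_one, Matrix.neg_apply, Matrix.one_apply_eq] at h1
  exact absurd h1 (by decide)

/-- the lifts and the matrices have the same signs -/
theorem sign_cases {w : List ℕ} (hw : ∀ r ∈ w, r < 48) (h1 : wd w = 1) :
    (W h w = 1 ∧ wA Bm w = 1) ∨ (W h w = zc h ∧ wA Bm w = -1) := by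
  have S := (ext_of h).sys
  let ν : Y × U C := (zc h, -1)
  have hc : ∀ g, ν * g = g * ν := fun g => Prod.ext (S.m_cen g.1) (by simp [ν])
  have h2 : ν * ν = 1 := Prod.ext (zc_sq h) (by simp [ν])
  have hmem : ∀ g, g ∈ zpowers ν ↔ g = 1 ∨ g = ν := H67.mem_zpowers_of_sq h2
  have hN : (zpowers ν).Normal := ⟨fun n hn g => by
    rcases (hmem n).1 hn with rfl | rfl
    · rw [mul_one, mul_inv_cancel]
      exact one_mem _
    · rwa [← hc, mul_inv_cancel_right]⟩
  let q := QuotientGroup.mk' (zpowers ν)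
  have hq : ∀ g, q g = 1 ↔ g = 1 ∨ g = ν := fun g => by rw [← MonoidHom.mem_ker, QuotientGroup.ker_mk', hmem]
  let f : ℕ → Y × U C := fun r => ((ext_of h).A r, Bm r)
  have hf : ∀ v : List ℕ, (v.map fun r => q (f r)).prod = q (W h v, wA Bm v) := fun v => by
    induction v with
    | nil => exact (map_one q).symm
    | cons r v ih => rw [List.map_cons, List.prod_cons, ih, ← map_mul, W, W, wA_cons, wA_cons]; rfl
  obtain ⟨θ, hθ⟩ := FourTwo.Pres.exists_hom (f := fun r => q (f r)) (fun r hr => by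
    rw [← map_mul, hq]
    refine .inl (Prod.ext (S.sq hr) ?_)
    change Bm r * Bm r = 1
    rw [Bm, mul_assoc, ← mul_assoc (H65.F4T.X r), ← sn_cen, mul_assoc, X_sq hr, mul_one, ← sn_xor, Bool.xor_self]
    rfl) fun r hr s hs h3 h4 => by
    rw [hf, ← map_mul, ← map_mul, ← map_mul]
    by_cases h5 : (cmg r s).length = 2
    · rw [← one_mul (q (_ * _ * _)), ← (hq ν).2 (.inr rfl), ← map_mul]
      refine congrArg q (Prod.ext (S.cm2 hr hs h5) ?_)
      refine (Bm_rel hr hs h3 h4).trans ?_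
      rw [h5]
      rfl
    · have h6 := Nat.le_of_ble_eq_true (all2_spec len_tab hr hs)
      refine congrArg q (Prod.ext (S.cm1 hr hs h3 h4 (by omega)) ?_)
      refine (Bm_rel hr hs h3 h4).trans ?_
      rw [show Nat.beq (cmg r s).length 2 = false from Bool.eq_false_iff.2 fun e => h5 (Nat.eq_of_beq_eq_true e)]
      exact one_mul _
  have h3 : θ (wd w) = q (W h w, wA Bm w) := by
    rw [← hf, wd, map_list_prod, List.map_map]
    exact congrArg _ (List.map_congr_left fun r hr => hθ r (hw r hr))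
  rw [h1, map_one] at h3
  exact ((hq _).1 h3.symm).imp (fun e => Prod.mk.inj e) fun e => Prod.mk.inj e

/-- the check of a sign -/
noncomputable def sgB (w : List ℕ) (b : Bool) : Bool := checkScalar C (cw L w) (bif xor (par w) b then 6 else 1) 0 1

theorem coe_prod : ∀ {w : List ℕ}, (∀ r ∈ w, r < 48) → (∀ g ∈ cw L w, okG C g = true) ∧
    (((w.map H65.F4T.X).prod : U C) : M C) = (w.map Mt).prod
  | [], _ => ⟨fun _ h => absurd h List.not_mem_nil, rfl⟩
  | r :: w, hw => by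
    obtain ⟨h1, h2⟩ := List.forall_mem_cons.1 hw
    rw [cw_cons, List.map_cons, List.prod_cons, List.map_cons, List.prod_cons, Units.val_mul, coe_X h1, (coe_prod h2).2]
    exact ⟨List.forall_mem_cons.2 ⟨okA h1, (coe_prod h2).1⟩, rfl⟩

theorem sgB_spec {w : List ℕ} (hw : ∀ r ∈ w, r < 48) {b c : Bool} (h1 : wA Bm w = sn c) (h2 : sgB w b = true) :
    c = b := by
  have G := good_of_check good
  have h3 := checkScalar_spec h2 0 le_rfl (by omega)
  have h0 : 0 < C.n := by decide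
  obtain ⟨k1, k2⟩ := unitRow_ok G one_lt h0
  obtain ⟨-, k3⟩ := run_spec G _ (coe_prod hw).1 k1
  have h4 : (w.map H65.F4T.X).prod = sn (xor (par w) c) := by
    rw [sn_xor, ← h1, wA_Bm, ← mul_assoc, ← sn_xor, Bool.xor_self]
    exact (one_mul _).symm
  rw [h3, cw_map, ← (coe_prod hw).2, h4, k2,
    (unitRow_ok G (c := bif xor (par w) b then 6 else 1) (by cases xor (par w) b <;> decide) h0).2] at k3
  have h5 := congrFun k3 ⟨0, h0⟩
  revert h5
  generalize par w = a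
  cases a <;> cases b <;> cases c <;> simp [sn, Matrix.vecMul_neg] <;> decide

/-- **the sign of a relation** -/
theorem W_eq {w : List ℕ} (hw : ∀ r ∈ w, r < 48) (h1 : wd w = 1) {b : Bool} (h2 : sgB w b = true) :
    W h w = bif b then zc h else 1 := by
  rcases sign_cases h hw h1 with ⟨h3, h4⟩ | ⟨h3, h4⟩
  · rw [h3, ← sgB_spec hw (c := false) h4 h2]
    rfl
  · rw [h3, ← sgB_spec hw (c := true) h4 h2]
    rfl

/-! ### the graph automorphism -/

private noncomputable def _root_.Cfsg.Agent.LsF.fdad93f_16 : {f // @Cfsg.Agent.FourTwo.Base.bar = f} := ⟨_, by first | (delta Cfsg.Agent.FourTwo.Base.bar; rewrite [Cfsg.Agent.LsF.getD_eq]; exact rfl) | exact rfl⟩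
theorem bar_cm : all2 (fun r s => !Nat.beq (cmg r s).length 1 || cmg (bar r) (bar s) == (cmg r s).map bar) = true := by
  ((try (rewrite [Cfsg.Agent.LsF.fdad93f_10.2, Cfsg.Agent.LsF.fdad93f_15.2, Cfsg.Agent.LsF.fdad93f_16.2, Cfsg.Agent.LsF.instNBEq_pat, Cfsg.Agent.LsF.or_eq, Cfsg.Agent.LsF.not_eq, Cfsg.Agent.LsF.map_eq, Cfsg.Agent.LsF.instBEq_eq, Cfsg.Agent.LsF.length_eq])); decide +kernel)

theorem lift_gam {α : MulAut Y} (hα : ∀ y, φ (α y) = gam (φ y)) :
    ∀ {w : List ℕ}, (∀ r ∈ w, r < 48) → α (W h w) = W h (w.map bar)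
  | [], _ => map_one α
  | r :: w, hw => by
    obtain ⟨h1, h2⟩ := List.forall_mem_cons.1 hw
    have E := ext_of h
    have h3 := E.A_unique (B := fun r => α (E.A (bar r))) (fun r hr => by
      rw [hα, E.map_A (bar_lt hr), gam_x (bar_lt hr), bar_bar hr]) (fun r hr s hs t ht => by
      have h4 := all2_spec bar_cm hr hs
      rw [ht] at h4
      rw [← map_inv, ← map_inv, ← map_mul, ← map_mul, ← map_mul,
        E.rel_one (bar_lt hr) (bar_lt hs) (t := bar t) (by simpa using h4)]) (bar_lt h1)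
    rw [bar_bar h1] at h3
    rw [List.map_cons, W, W, wA_cons, wA_cons, map_mul, h3]
    exact congrArg _ (lift_gam hα h2)

include h in
/-- an outer automorphism is, up to an inner one, the lift of the graph automorphism -/
theorem exists_gam {α : MulAut Y} (hn : ¬ ∃ y, α = MulAut.conj y) :
    ∃ y : Y, ∀ x, φ ((MulAut.conj y * α : MulAut Y) x) = gam (φ x) := by
  obtain ⟨δ, hδ⟩ := MK.T.exists_ind φ h.surj h.ker α
  obtain ⟨l, h1 | h1⟩ := mulAut_gam δ
  · exact absurd (inn_of_ind h (s := l) fun x => (hδ x).symm.trans (h1 _)) hn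
  · obtain ⟨y, rfl⟩ := h.surj l
    refine ⟨y⁻¹, fun x => ?_⟩
    rw [MulAut.mul_apply, MulAut.conj_apply, map_mul, map_mul, ← hδ, h1, inv_inv, map_inv]
    group

theorem out2_of {G : Type} [Group G] {β : G ≃* G}
    (o : ∀ α : MulAut G, ∃ l : G, (∀ x, α x = l * x * l⁻¹) ∨ ∀ x, α x = l * β x * l⁻¹) : Out2 G :=
  ⟨β, fun γ => (o γ).imp fun _ => Or.imp (fun h => MulEquiv.ext h) fun h => MulEquiv.ext h⟩

theorem out2 : Out2 LL := out2_of (G := LL) (β := gam) fun α => mulAut_gam α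

theorem outC : OutC 2 LL := Out2.outC (S := LL) out2 2

end Cfsg.Agent.MO.S.F42
end

private theorem dce_0afad537ea29 : _root_.True := by
  try have : _root_.True := by simp only [_root_.Cfsg.Agent.MO.S.F42.W.eq_1]
  try have : _root_.True := by simp only [_root_.Cfsg.Agent.MO.S.Two.pw.eq_1]
  try have : _root_.True := by simp only [_root_.Cfsg.Agent.MO.S.Two.cntF.eq_1]
  try have : _root_.True := by simp only [_root_.Cfsg.Agent.MO.S.F42.zc.congr_simp]
  try have : _root_.True := by simp only [_root_.Cfsg.Agent.MO.S.F42.Bm.eq_1]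
  try have : _root_.True := by simp only [_root_.Cfsg.Agent.MO.S.Two.ev.eq_1]
  try have : _root_.True := by simp only [_root_.Cfsg.Agent.MO.S.Two.pw.eq_def]
  try have : _root_.True := by simp only [_root_.Cfsg.Agent.MO.S.F42.upB.eq_1]
  try have : _root_.True := by simp only [_root_.Cfsg.Agent.MO.S.Two.pw.eq_2]
  try have : _root_.True := by simp only [_root_.Cfsg.Agent.MO.S.F42.sn.eq_1]
  try have : _root_.True := by simp only [_root_.Cfsg.Agent.MO.S.F42.ord.eq_1]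
  try have : _root_.True := by simp only [_root_.Cfsg.Agent.MO.S.F42.par.eq_1]
  exact _root_.True.intro
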