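import Cfsg.Agent.MQ.S.F42.L3
import Cfsg.Agent.TAB.F42.G.Out
import Cfsg.Agent.Lib.ListFast
import Cfsg.Agent.Prune
set_option linter.all false
prune_inst 0x7f00000000000000000000000000000000000000000000000000000000000000000000000000000000000000000000000000000000000000000000000000000000000000000000000000000000000000003fffffffffffffffffffffffffffbeffbdfbfeffff
open scoped Cfsg.Agent.FastGrp

-- part: MO/S/F42/L5
section
/-!
# MO, the double cover of `F₄(2)` : the local numbers for the prime 5 (helper33)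
-/

set_option autoImplicit false
set_option maxRecDepth 100000
set_option maxHeartbeats 400000

namespace Cfsg.Agent.MO.S.F42

open Cfsg Subgroup Cfsg.Agent.MO.T Cfsg.Agent.MO.S.Pc Cfsg.Agent.FourTwo.Base
open Cfsg.Agent.MK.S.Pc (ev ev_nil ev_cons V mem_V V_le)
open Cfsg.Agent.MO.L (chkM idM)
open Cfsg.Agent.TAB.F42.G (St finite_LL)

def w5 : List (List ℕ) :=
  [[41, 6, 3, 47, 41, 29, 41, 29, 47, 44], [19, 28, 27, 25, 41, 29, 41, 29, 47, 44], [0, 47, 41, 6, 3, 30, 20, 25],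
   [28, 25, 41, 29, 41, 29, 47, 44], [27, 4, 43, 4, 3, 1, 20, 27, 19, 16, 21, 23, 24, 23, 41, 29, 41, 29, 47, 44], [2,
   41, 12, 46, 39, 34, 27, 13, 12, 8, 5, 2, 16, 29, 27, 24, 18, 22, 24, 41, 29, 41, 29, 47, 44], [30, 28, 20], [17,
   30, 19, 25], [25, 19, 30, 17], [27, 17, 22], [22, 17, 27]]

def s5 : List ℕ :=
  [47, 41, 29, 0, 30, 29, 27, 20, 18, 22, 25, 22]

def ws5 : List (List ℕ) :=
  w5 ++ (w5.take 7).map (bw s5)

def c5 : Cert :=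
  ⟨[[], []], [[[], []], [[], []]], [([], [], []), ([], [], [])]⟩

def up5 : List Ut :=
  [⟨4, [], [[2, 0], [0, 2]], []⟩, ⟨2, [], [[1, 0], [0, 4]], [[2]]⟩, ⟨2, [], [[0, 1], [1, 0]], [[2], [3, 2, 2]]⟩, ⟨3,
   [2, 2, 2], [[1, 4], [2, 2]], [[2], [4, 2, 2], [4, 3, 2]]⟩, ⟨2, [3], [[1, 0], [0, 3]], [[2], [3], [3, 4, 2], [5, 5,
   4]]⟩]

def lv5 : List (ℕ × List (List ℕ)) :=
  [(33562624, [[0, 0, 0, 0], [0], [0, 0, 0], [], [0, 0]]), (56358256, [[1, 1, 1], [1], [1, 1], [1, 1, 1, 1], []])]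

def us5 : List (List ℕ) :=
  [[], [7], [9], [7, 7], [9, 7], [7, 9], [9, 9], [7, 7, 7], [9, 7, 7], [7, 9, 7], [9, 9, 7], [7, 7, 9], [9, 7, 9], [7,
   9, 9], [9, 9, 9], [7, 7, 7, 7], [9, 7, 7, 7], [7, 9, 7, 7], [9, 9, 7, 7], [7, 7, 9, 7], [9, 9, 9, 7], [7, 7, 7, 9],
   [9, 7, 7, 9], [7, 9, 7, 9], [9, 9, 7, 9], [7, 7, 9, 9], [7, 9, 9, 9], [9, 7, 7, 7, 7], [9, 9, 7, 7, 7], [7, 9, 9,
   7, 7], [7, 7, 7, 9, 7], [7, 9, 9, 9, 7], [7, 7, 7, 7, 9], [9, 7, 7, 7, 9], [7, 9, 7, 7, 9], [7, 9, 7, 7, 7, 7]]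

def st5 : List St :=
  [⟨63353973, [80, 8211, 208, 24627, 8499], [80, 80, 16595, 208, 24915, 41427, 33235, 464, 41555, 58067, 74579, 91091,
   66515, 107603, 83027, 66515, 83027, 99539, 116051, 132563, 149075, 165587, 116435, 181971, 74835], 3600⟩]

def be5 : List ℕ :=
  [65053220, 29708535, 40380894, 1296710, 32331949, 60201374, 13224275, 54800469, 60261306, 12775605, 60473714,
   35895837, 17956465, 63958956, 24339797, 59759868, 43369365, 50430144, 47460115, 42136238, 51375677, 8448040,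
   62538680, 28384119, 11537303, 10449730]

def pa5 : List ℕ :=
  [1, 1, 1, 2, 0, 4, 5, 0, 0, 5, 4, 0, 0, 0, 2, 4, 5, 0, 0, 5, 0, 0, 3, 5, 4, 0, 0, 0, 4, 3, 5, 0, 0, 4, 0, 5, 0, 0,
   5, 3, 0, 4, 0, 0, 0, 2, 3, 0, 4, 4, 0, 5, 0, 0, 5, 4, 0, 0, 0, 3, 2, 0, 4, 4, 0, 5, 0, 0, 5, 4, 0, 0, 0, 4, 2, 5,
   0, 0, 3, 4, 0, 5, 0, 0, 4, 2, 0, 3, 0, 5, 0, 0, 5, 0, 0, 5, 3, 4, 0, 0, 4, 2, 0, 0, 0, 0, 2, 3, 5, 0, 0, 4, 2, 5,
   0, 0, 4, 0, 5, 0, 0, 5, 4, 2, 0, 0, 0, 0, 3, 2, 0, 4, 4, 0, 5, 0, 0, 5, 3, 0, 4, 5, 0, 0, 0, 0, 4, 2, 3, 5, 0, 0,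
   4, 0, 5, 0, 0, 3, 4, 0, 5, 0, 0, 4, 2, 0, 3, 0, 5, 0, 0, 5, 4, 0, 0, 0, 5, 3, 4, 0, 5, 0, 0, 4, 2, 0, 5]

def pb5 : List ℕ :=
  [1, 1, 1, 2, 0, 3, 0, 4, 4, 0, 0, 0, 2, 4, 0, 0, 3, 0, 4, 3, 0, 4, 0, 0, 0, 2, 3, 0, 4, 4, 0, 0, 0, 3, 2, 0, 4, 4,
   0, 0, 0, 4, 2, 4, 0, 0, 3, 4, 0, 0, 4, 2, 0, 3, 0, 0, 0, 0, 2, 3, 0, 4, 2, 0, 4, 0, 0, 0, 3, 2, 0, 4, 4, 0, 0, 0,
   4, 2, 3, 0, 4, 0, 0, 3, 4, 0, 0, 4, 2, 0, 3]

theorem ok5 : okW ws5 = true := by decide +kernel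

private noncomputable def _root_.Cfsg.Agent.LsF.f1af56c_0 : {f // @Cfsg.Agent.TAB.F42.G.rows = f} := ⟨_, by first | (delta Cfsg.Agent.TAB.F42.G.rows; rewrite [Cfsg.Agent.LsF.getD_eq]; exact rfl) | exact rfl⟩
private noncomputable def _root_.Cfsg.Agent.LsF.f1af56c_1 : {f // @Cfsg.Agent.MO.S.F42.rsF = f} := ⟨_, by first | (delta Cfsg.Agent.MO.S.F42.rsF; rewrite [Cfsg.Agent.LsF.f1af56c_0.2]; exact rfl) | exact rfl⟩
private noncomputable def _root_.Cfsg.Agent.LsF.f1af56c_2 : {f // @Cfsg.Agent.FourTwo.Base.bar = f} := ⟨_, by first | (delta Cfsg.Agent.FourTwo.Base.bar; rewrite [Cfsg.Agent.LsF.getD_eq]; exact rfl) | exact rfl⟩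
private noncomputable def _root_.Cfsg.Agent.LsF.f1af56c_3 : {f // @Cfsg.Agent.MO.S.F42.bw = f} := ⟨_, by first | (delta Cfsg.Agent.MO.S.F42.bw; rewrite [Cfsg.Agent.LsF.f1af56c_2.2, Cfsg.Agent.LsF.lappend_pat, Cfsg.Agent.LsF.map_eq, Cfsg.Agent.LsF.reverse_eq]; exact rfl) | exact rfl⟩
private noncomputable def _root_.Cfsg.Agent.LsF.f1af56c_4 : {f // @Cfsg.Agent.MO.S.F42.ws5 = f} := ⟨_, by first | (delta Cfsg.Agent.MO.S.F42.ws5; rewrite [Cfsg.Agent.LsF.f1af56c_3.2, Cfsg.Agent.LsF.lappend_pat, Cfsg.Agent.LsF.map_eq, Cfsg.Agent.LsF.take_eq]; exact rfl) | exact rfl⟩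
private noncomputable def _root_.Cfsg.Agent.LsF.f1af56c_5 : {f // @Cfsg.Agent.MK.S.Pc.inR = f} := ⟨_, by first | (delta Cfsg.Agent.MK.S.Pc.inR; rewrite [Cfsg.Agent.LsF.and_eq, Cfsg.Agent.LsF.all_eq]; exact rfl) | exact rfl⟩
private noncomputable def _root_.Cfsg.Agent.LsF.f1af56c_6 : {f // @Cfsg.Agent.MO.S.Pc.chk1 = f} := ⟨_, by first | (delta Cfsg.Agent.MO.S.Pc.chk1; rewrite [Cfsg.Agent.LsF.f1af56c_5.2, Cfsg.Agent.LsF.nadd_pat, Cfsg.Agent.LsF.nmax_pat, Cfsg.Agent.LsF.lappend_pat, Cfsg.Agent.LsF.and_eq, Cfsg.Agent.LsF.or_eq, Cfsg.Agent.LsF.all_eq, Cfsg.Agent.LsF.replicate_eq, Cfsg.Agent.LsF.range_eq, Cfsg.Agent.LsF.getD_eq]; exact rfl) | exact rfl⟩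
private noncomputable def _root_.Cfsg.Agent.LsF.f1af56c_7 : {f // @Cfsg.Agent.MO.S.Pc.chk = f} := ⟨_, by first | (delta Cfsg.Agent.MO.S.Pc.chk; rewrite [Cfsg.Agent.LsF.f1af56c_6.2, Cfsg.Agent.LsF.and_eq, Cfsg.Agent.LsF.all_eq, Cfsg.Agent.LsF.range_eq]; exact rfl) | exact rfl⟩
private noncomputable def _root_.Cfsg.Agent.LsF.f1af56c_8 : {f // @Cfsg.Agent.Lib.PackMat.rep = f} := ⟨_, by first | (delta Cfsg.Agent.Lib.PackMat.rep; rewrite [Cfsg.Agent.LsF.nmul_pat, Cfsg.Agent.LsF.nsub_pat, Cfsg.Agent.LsF.ndiv_pat, Cfsg.Agent.LsF.npow_pat]; exact rfl) | exact rfl⟩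
private noncomputable def _root_.Cfsg.Agent.LsF.f1af56c_9 : {f // @Cfsg.Agent.Lib.PackMat.gmask = f} := ⟨_, by first | (delta Cfsg.Agent.Lib.PackMat.gmask; rewrite [Cfsg.Agent.LsF.f1af56c_8.2, Cfsg.Agent.LsF.nmul_pat, Cfsg.Agent.LsF.nsub_pat, Cfsg.Agent.LsF.npow_pat]; exact rfl) | exact rfl⟩
private noncomputable def _root_.Cfsg.Agent.LsF.f1af56c_10 : {f // @Cfsg.Agent.Lib.PackMat.GMc = f} := ⟨_, by first | (delta Cfsg.Agent.Lib.PackMat.GMc; rewrite [Cfsg.Agent.LsF.f1af56c_9.2]; exact rfl) | exact rfl⟩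
private noncomputable def _root_.Cfsg.Agent.LsF.f1af56c_11 : {f // @Cfsg.Agent.Lib.PackMat.FMc = f} := ⟨_, by first | (delta Cfsg.Agent.Lib.PackMat.FMc; rewrite [Cfsg.Agent.LsF.nadd_pat, Cfsg.Agent.LsF.nmul_pat, Cfsg.Agent.LsF.nsub_pat, Cfsg.Agent.LsF.npow_pat]; exact rfl) | exact rfl⟩
private noncomputable def _root_.Cfsg.Agent.LsF.f1af56c_12 : {f // @Cfsg.Agent.Lib.PackMat.LOc = f} := ⟨_, by first | (delta Cfsg.Agent.Lib.PackMat.LOc; rewrite [Cfsg.Agent.LsF.f1af56c_8.2, Cfsg.Agent.LsF.nmul_pat, Cfsg.Agent.LsF.nsub_pat, Cfsg.Agent.LsF.npow_pat]; exact rfl) | exact rfl⟩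
private noncomputable def _root_.Cfsg.Agent.LsF.f1af56c_13 : {f // @Cfsg.Agent.Lib.PackMat.HIc = f} := ⟨_, by first | (delta Cfsg.Agent.Lib.PackMat.HIc; rewrite [Cfsg.Agent.LsF.f1af56c_8.2, Cfsg.Agent.LsF.nmul_pat, Cfsg.Agent.LsF.nsub_pat, Cfsg.Agent.LsF.npow_pat]; exact rfl) | exact rfl⟩
private noncomputable def _root_.Cfsg.Agent.LsF.f1af56c_14 : {f // @Cfsg.Agent.Lib.PackMat.HTc = f} := ⟨_, by first | (delta Cfsg.Agent.Lib.PackMat.HTc; rewrite [Cfsg.Agent.LsF.f1af56c_8.2, Cfsg.Agent.LsF.nmul_pat, Cfsg.Agent.LsF.nsub_pat, Cfsg.Agent.LsF.npow_pat]; exact rfl) | exact rfl⟩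
private noncomputable def _root_.Cfsg.Agent.LsF.f1af56c_15 : {f // @Cfsg.Agent.Lib.PackMat.withC = f} := ⟨_, by first | (delta Cfsg.Agent.Lib.PackMat.withC; rewrite [Cfsg.Agent.LsF.f1af56c_10.2, Cfsg.Agent.LsF.f1af56c_11.2, Cfsg.Agent.LsF.f1af56c_12.2, Cfsg.Agent.LsF.f1af56c_13.2, Cfsg.Agent.LsF.f1af56c_14.2]; exact rfl) | exact rfl⟩
private noncomputable def _root_.Cfsg.Agent.LsF.f1af56c_16 : {f // @Cfsg.Agent.Lib.PackMat.unitRow = f} := ⟨_, by first | (delta Cfsg.Agent.Lib.PackMat.unitRow; rewrite [Cfsg.Agent.LsF.nmul_pat, Cfsg.Agent.LsF.nsub_pat, Cfsg.Agent.LsF.npow_pat]; exact rfl) | exact rfl⟩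
private noncomputable def _root_.Cfsg.Agent.LsF.f1af56c_17 : {f // @Cfsg.Agent.Lib.PackMat.foldK = f} := ⟨_, by first | (delta Cfsg.Agent.Lib.PackMat.foldK Nat.brecOn.go Nat.brecOn Cfsg.Agent.Lib.PackMat.foldK._f; (try delta Cfsg.Agent.Lib.PackMat.foldBoundIter.match_1); (try delta Nat.casesOn); first | dsimp -zeta only | exact rfl) | exact rfl⟩
private noncomputable def _root_.Cfsg.Agent.LsF.f1af56c_18 : {f // @Cfsg.Agent.Lib.PackMat.stepK = f} := ⟨_, by first | (delta Cfsg.Agent.Lib.PackMat.stepK; rewrite [Cfsg.Agent.LsF.f1af56c_17.2]; exact rfl) | exact rfl⟩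
private noncomputable def _root_.Cfsg.Agent.LsF.f1af56c_19 : {f // @Cfsg.Agent.Lib.PackMat.runK = f} := ⟨_, by first | (delta Cfsg.Agent.Lib.PackMat.runK List.brecOn List.brecOn.go Cfsg.Agent.Lib.PackMat.runK._f; rewrite [Cfsg.Agent.LsF.f1af56c_18.2]; (try delta Cfsg.Agent.Lib.PackMat.runK.match_1); (try delta List.casesOn); first | dsimp -zeta only | exact rfl) | exact rfl⟩
private noncomputable def _root_.Cfsg.Agent.LsF.f1af56c_20 : {f // @Cfsg.Agent.Lib.PackMat.checkScalarK = f} := ⟨_, by first | (delta Cfsg.Agent.Lib.PackMat.checkScalarK Cfsg.Agent.Lib.PackMat.checkScalarK._f Nat.brecOn.go Nat.brecOn; rewrite [Cfsg.Agent.LsF.f1af56c_19.2, Cfsg.Agent.LsF.cond_eq]; (try delta Cfsg.Agent.Lib.PackMat.foldBoundIter.match_1); (try delta Nat.casesOn); first | dsimp -zeta only | exact rfl) | exact rfl⟩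
private noncomputable def _root_.Cfsg.Agent.LsF.f1af56c_21 : {f // @Cfsg.Agent.Lib.PackMat.checkScalar = f} := ⟨_, by first | (delta Cfsg.Agent.Lib.PackMat.checkScalar; rewrite [Cfsg.Agent.LsF.f1af56c_15.2, Cfsg.Agent.LsF.f1af56c_16.2, Cfsg.Agent.LsF.f1af56c_20.2, Cfsg.Agent.LsF.nadd_pat, Cfsg.Agent.LsF.cond_eq]; exact rfl) | exact rfl⟩
private noncomputable def _root_.Cfsg.Agent.LsF.f1af56c_22 : {f // @Cfsg.Agent.Lib.PackMatGroup.asm = f} := ⟨_, by first | (delta Cfsg.Agent.Lib.PackMatGroup.asm List.brecOn List.brecOn.go Cfsg.Agent.Lib.PackMatGroup.asm._f; (try delta Cfsg.Agent.Lib.PackMatGroup.asm.match_1); (try delta List.casesOn); first | dsimp -zeta only | exact rfl) | exact rfl⟩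
private noncomputable def _root_.Cfsg.Agent.LsF.f1af56c_23 : {f // @Cfsg.Agent.H65.F4T.A42 = f} := ⟨_, by first | (delta Cfsg.Agent.H65.F4T.A42; rewrite [Cfsg.Agent.LsF.f1af56c_22.2]; exact rfl) | exact rfl⟩
private noncomputable def _root_.Cfsg.Agent.LsF.f1af56c_24 : {f // @Cfsg.Agent.H65.F4T.A43 = f} := ⟨_, by first | (delta Cfsg.Agent.H65.F4T.A43; rewrite [Cfsg.Agent.LsF.f1af56c_22.2]; exact rfl) | exact rfl⟩
private noncomputable def _root_.Cfsg.Agent.LsF.f1af56c_25 : {f // @Cfsg.Agent.H65.F4T.A44 = f} := ⟨_, by first | (delta Cfsg.Agent.H65.F4T.A44; rewrite [Cfsg.Agent.LsF.f1af56c_22.2]; exact rfl) | exact rfl⟩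
private noncomputable def _root_.Cfsg.Agent.LsF.f1af56c_26 : {f // @Cfsg.Agent.H65.F4T.A45 = f} := ⟨_, by first | (delta Cfsg.Agent.H65.F4T.A45; rewrite [Cfsg.Agent.LsF.f1af56c_22.2]; exact rfl) | exact rfl⟩
private noncomputable def _root_.Cfsg.Agent.LsF.f1af56c_27 : {f // @Cfsg.Agent.H65.F4T.A46 = f} := ⟨_, by first | (delta Cfsg.Agent.H65.F4T.A46; rewrite [Cfsg.Agent.LsF.f1af56c_22.2]; exact rfl) | exact rfl⟩
private noncomputable def _root_.Cfsg.Agent.LsF.f1af56c_28 : {f // @Cfsg.Agent.H65.F4T.A47 = f} := ⟨_, by first | (delta Cfsg.Agent.H65.F4T.A47; rewrite [Cfsg.Agent.LsF.f1af56c_22.2]; exact rfl) | exact rfl⟩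
private noncomputable def _root_.Cfsg.Agent.LsF.f1af56c_29 : {f // @Cfsg.Agent.H65.F4T.Z = f} := ⟨_, by first | (delta Cfsg.Agent.H65.F4T.Z; rewrite [Cfsg.Agent.LsF.f1af56c_22.2]; exact rfl) | exact rfl⟩
private noncomputable def _root_.Cfsg.Agent.LsF.f1af56c_30 : {f // @Cfsg.Agent.H65.F4T.A36 = f} := ⟨_, by first | (delta Cfsg.Agent.H65.F4T.A36; rewrite [Cfsg.Agent.LsF.f1af56c_22.2]; exact rfl) | exact rfl⟩
private noncomputable def _root_.Cfsg.Agent.LsF.f1af56c_31 : {f // @Cfsg.Agent.H65.F4T.A37 = f} := ⟨_, by first | (delta Cfsg.Agent.H65.F4T.A37; rewrite [Cfsg.Agent.LsF.f1af56c_22.2]; exact rfl) | exact rfl⟩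
private noncomputable def _root_.Cfsg.Agent.LsF.f1af56c_32 : {f // @Cfsg.Agent.H65.F4T.A38 = f} := ⟨_, by first | (delta Cfsg.Agent.H65.F4T.A38; rewrite [Cfsg.Agent.LsF.f1af56c_22.2]; exact rfl) | exact rfl⟩
private noncomputable def _root_.Cfsg.Agent.LsF.f1af56c_33 : {f // @Cfsg.Agent.H65.F4T.A39 = f} := ⟨_, by first | (delta Cfsg.Agent.H65.F4T.A39; rewrite [Cfsg.Agent.LsF.f1af56c_22.2]; exact rfl) | exact rfl⟩
private noncomputable def _root_.Cfsg.Agent.LsF.f1af56c_34 : {f // @Cfsg.Agent.H65.F4T.A40 = f} := ⟨_, by first | (delta Cfsg.Agent.H65.F4T.A40; rewrite [Cfsg.Agent.LsF.f1af56c_22.2]; exact rfl) | exact rfl⟩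
private noncomputable def _root_.Cfsg.Agent.LsF.f1af56c_35 : {f // @Cfsg.Agent.H65.F4T.A41 = f} := ⟨_, by first | (delta Cfsg.Agent.H65.F4T.A41; rewrite [Cfsg.Agent.LsF.f1af56c_22.2]; exact rfl) | exact rfl⟩
private noncomputable def _root_.Cfsg.Agent.LsF.f1af56c_36 : {f // @Cfsg.Agent.H65.F4T.A30 = f} := ⟨_, by first | (delta Cfsg.Agent.H65.F4T.A30; rewrite [Cfsg.Agent.LsF.f1af56c_22.2]; exact rfl) | exact rfl⟩
private noncomputable def _root_.Cfsg.Agent.LsF.f1af56c_37 : {f // @Cfsg.Agent.H65.F4T.A31 = f} := ⟨_, by first | (delta Cfsg.Agent.H65.F4T.A31; rewrite [Cfsg.Agent.LsF.f1af56c_22.2]; exact rfl) | exact rfl⟩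
private noncomputable def _root_.Cfsg.Agent.LsF.f1af56c_38 : {f // @Cfsg.Agent.H65.F4T.A32 = f} := ⟨_, by first | (delta Cfsg.Agent.H65.F4T.A32; rewrite [Cfsg.Agent.LsF.f1af56c_22.2]; exact rfl) | exact rfl⟩
private noncomputable def _root_.Cfsg.Agent.LsF.f1af56c_39 : {f // @Cfsg.Agent.H65.F4T.A33 = f} := ⟨_, by first | (delta Cfsg.Agent.H65.F4T.A33; rewrite [Cfsg.Agent.LsF.f1af56c_22.2]; exact rfl) | exact rfl⟩
private noncomputable def _root_.Cfsg.Agent.LsF.f1af56c_40 : {f // @Cfsg.Agent.H65.F4T.A34 = f} := ⟨_, by first | (delta Cfsg.Agent.H65.F4T.A34; rewrite [Cfsg.Agent.LsF.f1af56c_22.2]; exact rfl) | exact rfl⟩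
private noncomputable def _root_.Cfsg.Agent.LsF.f1af56c_41 : {f // @Cfsg.Agent.H65.F4T.A35 = f} := ⟨_, by first | (delta Cfsg.Agent.H65.F4T.A35; rewrite [Cfsg.Agent.LsF.f1af56c_22.2]; exact rfl) | exact rfl⟩
private noncomputable def _root_.Cfsg.Agent.LsF.f1af56c_42 : {f // @Cfsg.Agent.H65.F4T.A24 = f} := ⟨_, by first | (delta Cfsg.Agent.H65.F4T.A24; rewrite [Cfsg.Agent.LsF.f1af56c_22.2]; exact rfl) | exact rfl⟩
private noncomputable def _root_.Cfsg.Agent.LsF.f1af56c_43 : {f // @Cfsg.Agent.H65.F4T.A25 = f} := ⟨_, by first | (delta Cfsg.Agent.H65.F4T.A25; rewrite [Cfsg.Agent.LsF.f1af56c_22.2]; exact rfl) | exact rfl⟩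
private noncomputable def _root_.Cfsg.Agent.LsF.f1af56c_44 : {f // @Cfsg.Agent.H65.F4T.A26 = f} := ⟨_, by first | (delta Cfsg.Agent.H65.F4T.A26; rewrite [Cfsg.Agent.LsF.f1af56c_22.2]; exact rfl) | exact rfl⟩
private noncomputable def _root_.Cfsg.Agent.LsF.f1af56c_45 : {f // @Cfsg.Agent.H65.F4T.A27 = f} := ⟨_, by first | (delta Cfsg.Agent.H65.F4T.A27; rewrite [Cfsg.Agent.LsF.f1af56c_22.2]; exact rfl) | exact rfl⟩
private noncomputable def _root_.Cfsg.Agent.LsF.f1af56c_46 : {f // @Cfsg.Agent.H65.F4T.A28 = f} := ⟨_, by first | (delta Cfsg.Agent.H65.F4T.A28; rewrite [Cfsg.Agent.LsF.f1af56c_22.2]; exact rfl) | exact rfl⟩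
private noncomputable def _root_.Cfsg.Agent.LsF.f1af56c_47 : {f // @Cfsg.Agent.H65.F4T.A29 = f} := ⟨_, by first | (delta Cfsg.Agent.H65.F4T.A29; rewrite [Cfsg.Agent.LsF.f1af56c_22.2]; exact rfl) | exact rfl⟩
private noncomputable def _root_.Cfsg.Agent.LsF.f1af56c_48 : {f // @Cfsg.Agent.H65.F4T.A18 = f} := ⟨_, by first | (delta Cfsg.Agent.H65.F4T.A18; rewrite [Cfsg.Agent.LsF.f1af56c_22.2]; exact rfl) | exact rfl⟩
private noncomputable def _root_.Cfsg.Agent.LsF.f1af56c_49 : {f // @Cfsg.Agent.H65.F4T.A19 = f} := ⟨_, by first | (delta Cfsg.Agent.H65.F4T.A19; rewrite [Cfsg.Agent.LsF.f1af56c_22.2]; exact rfl) | exact rfl⟩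
private noncomputable def _root_.Cfsg.Agent.LsF.f1af56c_50 : {f // @Cfsg.Agent.H65.F4T.A20 = f} := ⟨_, by first | (delta Cfsg.Agent.H65.F4T.A20; rewrite [Cfsg.Agent.LsF.f1af56c_22.2]; exact rfl) | exact rfl⟩
private noncomputable def _root_.Cfsg.Agent.LsF.f1af56c_51 : {f // @Cfsg.Agent.H65.F4T.A21 = f} := ⟨_, by first | (delta Cfsg.Agent.H65.F4T.A21; rewrite [Cfsg.Agent.LsF.f1af56c_22.2]; exact rfl) | exact rfl⟩
private noncomputable def _root_.Cfsg.Agent.LsF.f1af56c_52 : {f // @Cfsg.Agent.H65.F4T.A22 = f} := ⟨_, by first | (delta Cfsg.Agent.H65.F4T.A22; rewrite [Cfsg.Agent.LsF.f1af56c_22.2]; exact rfl) | exact rfl⟩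
private noncomputable def _root_.Cfsg.Agent.LsF.f1af56c_53 : {f // @Cfsg.Agent.H65.F4T.A23 = f} := ⟨_, by first | (delta Cfsg.Agent.H65.F4T.A23; rewrite [Cfsg.Agent.LsF.f1af56c_22.2]; exact rfl) | exact rfl⟩
private noncomputable def _root_.Cfsg.Agent.LsF.f1af56c_54 : {f // @Cfsg.Agent.H65.F4T.A12 = f} := ⟨_, by first | (delta Cfsg.Agent.H65.F4T.A12; rewrite [Cfsg.Agent.LsF.f1af56c_22.2]; exact rfl) | exact rfl⟩
private noncomputable def _root_.Cfsg.Agent.LsF.f1af56c_55 : {f // @Cfsg.Agent.H65.F4T.A13 = f} := ⟨_, by first | (delta Cfsg.Agent.H65.F4T.A13; rewrite [Cfsg.Agent.LsF.f1af56c_22.2]; exact rfl) | exact rfl⟩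
private noncomputable def _root_.Cfsg.Agent.LsF.f1af56c_56 : {f // @Cfsg.Agent.H65.F4T.A14 = f} := ⟨_, by first | (delta Cfsg.Agent.H65.F4T.A14; rewrite [Cfsg.Agent.LsF.f1af56c_22.2]; exact rfl) | exact rfl⟩
private noncomputable def _root_.Cfsg.Agent.LsF.f1af56c_57 : {f // @Cfsg.Agent.H65.F4T.A15 = f} := ⟨_, by first | (delta Cfsg.Agent.H65.F4T.A15; rewrite [Cfsg.Agent.LsF.f1af56c_22.2]; exact rfl) | exact rfl⟩
private noncomputable def _root_.Cfsg.Agent.LsF.f1af56c_58 : {f // @Cfsg.Agent.H65.F4T.A16 = f} := ⟨_, by first | (delta Cfsg.Agent.H65.F4T.A16; rewrite [Cfsg.Agent.LsF.f1af56c_22.2]; exact rfl) | exact rfl⟩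
private noncomputable def _root_.Cfsg.Agent.LsF.f1af56c_59 : {f // @Cfsg.Agent.H65.F4T.A17 = f} := ⟨_, by first | (delta Cfsg.Agent.H65.F4T.A17; rewrite [Cfsg.Agent.LsF.f1af56c_22.2]; exact rfl) | exact rfl⟩
private noncomputable def _root_.Cfsg.Agent.LsF.f1af56c_60 : {f // @Cfsg.Agent.H65.F4T.A6 = f} := ⟨_, by first | (delta Cfsg.Agent.H65.F4T.A6; rewrite [Cfsg.Agent.LsF.f1af56c_22.2]; exact rfl) | exact rfl⟩
private noncomputable def _root_.Cfsg.Agent.LsF.f1af56c_61 : {f // @Cfsg.Agent.H65.F4T.A7 = f} := ⟨_, by first | (delta Cfsg.Agent.H65.F4T.A7; rewrite [Cfsg.Agent.LsF.f1af56c_22.2]; exact rfl) | exact rfl⟩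
private noncomputable def _root_.Cfsg.Agent.LsF.f1af56c_62 : {f // @Cfsg.Agent.H65.F4T.A8 = f} := ⟨_, by first | (delta Cfsg.Agent.H65.F4T.A8; rewrite [Cfsg.Agent.LsF.f1af56c_22.2]; exact rfl) | exact rfl⟩
private noncomputable def _root_.Cfsg.Agent.LsF.f1af56c_63 : {f // @Cfsg.Agent.H65.F4T.A9 = f} := ⟨_, by first | (delta Cfsg.Agent.H65.F4T.A9; rewrite [Cfsg.Agent.LsF.f1af56c_22.2]; exact rfl) | exact rfl⟩
private noncomputable def _root_.Cfsg.Agent.LsF.f1af56c_64 : {f // @Cfsg.Agent.H65.F4T.A10 = f} := ⟨_, by first | (delta Cfsg.Agent.H65.F4T.A10; rewrite [Cfsg.Agent.LsF.f1af56c_22.2]; exact rfl) | exact rfl⟩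
private noncomputable def _root_.Cfsg.Agent.LsF.f1af56c_65 : {f // @Cfsg.Agent.H65.F4T.A11 = f} := ⟨_, by first | (delta Cfsg.Agent.H65.F4T.A11; rewrite [Cfsg.Agent.LsF.f1af56c_22.2]; exact rfl) | exact rfl⟩
private noncomputable def _root_.Cfsg.Agent.LsF.f1af56c_66 : {f // @Cfsg.Agent.H65.F4T.A0 = f} := ⟨_, by first | (delta Cfsg.Agent.H65.F4T.A0; rewrite [Cfsg.Agent.LsF.f1af56c_22.2]; exact rfl) | exact rfl⟩
private noncomputable def _root_.Cfsg.Agent.LsF.f1af56c_67 : {f // @Cfsg.Agent.H65.F4T.A1 = f} := ⟨_, by first | (delta Cfsg.Agent.H65.F4T.A1; rewrite [Cfsg.Agent.LsF.f1af56c_22.2]; exact rfl) | exact rfl⟩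
private noncomputable def _root_.Cfsg.Agent.LsF.f1af56c_68 : {f // @Cfsg.Agent.H65.F4T.A2 = f} := ⟨_, by first | (delta Cfsg.Agent.H65.F4T.A2; rewrite [Cfsg.Agent.LsF.f1af56c_22.2]; exact rfl) | exact rfl⟩
private noncomputable def _root_.Cfsg.Agent.LsF.f1af56c_69 : {f // @Cfsg.Agent.H65.F4T.A3 = f} := ⟨_, by first | (delta Cfsg.Agent.H65.F4T.A3; rewrite [Cfsg.Agent.LsF.f1af56c_22.2]; exact rfl) | exact rfl⟩
private noncomputable def _root_.Cfsg.Agent.LsF.f1af56c_70 : {f // @Cfsg.Agent.H65.F4T.A4 = f} := ⟨_, by first | (delta Cfsg.Agent.H65.F4T.A4; rewrite [Cfsg.Agent.LsF.f1af56c_22.2]; exact rfl) | exact rfl⟩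
private noncomputable def _root_.Cfsg.Agent.LsF.f1af56c_71 : {f // @Cfsg.Agent.H65.F4T.A5 = f} := ⟨_, by first | (delta Cfsg.Agent.H65.F4T.A5; rewrite [Cfsg.Agent.LsF.f1af56c_22.2]; exact rfl) | exact rfl⟩
private noncomputable def _root_.Cfsg.Agent.LsF.f1af56c_72 : {f // @Cfsg.Agent.H65.F4T.L = f} := ⟨_, by first | (delta Cfsg.Agent.H65.F4T.L; rewrite [Cfsg.Agent.LsF.f1af56c_23.2, Cfsg.Agent.LsF.f1af56c_24.2, Cfsg.Agent.LsF.f1af56c_25.2, Cfsg.Agent.LsF.f1af56c_26.2, Cfsg.Agent.LsF.f1af56c_27.2, Cfsg.Agent.LsF.f1af56c_28.2, Cfsg.Agent.LsF.f1af56c_29.2, Cfsg.Agent.LsF.f1af56c_30.2, Cfsg.Agent.LsF.f1af56c_31.2, Cfsg.Agent.LsF.f1af56c_32.2, Cfsg.Agent.LsF.f1af56c_33.2, Cfsg.Agent.LsF.f1af56c_34.2, Cfsg.Agent.LsF.f1af56c_35.2, Cfsg.Agent.LsF.f1af56c_36.2, Cfsg.Agent.LsF.f1af56c_37.2, Cfsg.Agent.LsF.f1af56c_38.2, Cfsg.Agent.LsF.f1af56c_39.2, Cfsg.Agent.LsF.f1af56c_40.2,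 Cfsg.Agent.LsF.f1af56c_41.2, Cfsg.Agent.LsF.f1af56c_42.2, Cfsg.Agent.LsF.f1af56c_43.2, Cfsg.Agent.LsF.f1af56c_44.2, Cfsg.Agent.LsF.f1af56c_45.2, Cfsg.Agent.LsF.f1af56c_46.2, Cfsg.Agent.LsF.f1af56c_47.2, Cfsg.Agent.LsF.f1af56c_48.2, Cfsg.Agent.LsF.f1af56c_49.2, Cfsg.Agent.LsF.f1af56c_50.2, Cfsg.Agent.LsF.f1af56c_51.2, Cfsg.Agent.LsF.f1af56c_52.2, Cfsg.Agent.LsF.f1af56c_53.2, Cfsg.Agent.LsF.f1af56c_54.2, Cfsg.Agent.LsF.f1af56c_55.2, Cfsg.Agent.LsF.f1af56c_56.2, Cfsg.Agent.LsF.f1af56c_57.2, Cfsg.Agent.LsF.f1af56c_58.2, Cfsg.Agent.LsF.f1af56c_59.2, Cfsg.Agent.LsF.f1af56c_60.2, Cfsg.Agent.LsF.f1af56c_61.2, Cfsg.Agent.LsF.f1af56c_62.2, Cfsg.Agent.LsF.f1af56c_63.2, Cfsg.Agent.LsF.f1af56c_64.2, Cfsg.Agent.LsF.f1af56c_65.2, Cfsg.Agent.LsF.f1af56c_66.2, Cfsg.Agent.LsF.f1af56c_67.2, Cfsg.Agent.LsF.f1af56c_68.2, Cfsg.Agent.LsF.f1af56c_69.2, Cfsg.Agent.LsF.f1af56c_70.2,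 Cfsg.Agent.LsF.f1af56c_71.2]; exact rfl) | exact rfl⟩
private noncomputable def _root_.Cfsg.Agent.LsF.f1af56c_73 : {f // @Cfsg.Agent.FourTwo.CentAll.isShort = f} := ⟨_, by first | (delta Cfsg.Agent.FourTwo.CentAll.isShort; rewrite [Cfsg.Agent.LsF.instNBEq_pat, Cfsg.Agent.LsF.contains_eq]; exact rfl) | exact rfl⟩
private noncomputable def _root_.Cfsg.Agent.LsF.f1af56c_74 : {f // @Cfsg.Agent.MO.S.F42.par = f} := ⟨_, by first | (delta Cfsg.Agent.MO.S.F42.par; rewrite [Cfsg.Agent.LsF.f1af56c_73.2, Cfsg.Agent.LsF.bxor_eq]; exact rfl) | exact rfl⟩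
private noncomputable def _root_.Cfsg.Agent.LsF.f1af56c_75 : {f // @Cfsg.Agent.MO.S.F42.sgB = f} := ⟨_, by first | (delta Cfsg.Agent.MO.S.F42.sgB; rewrite [Cfsg.Agent.LsF.f1af56c_21.2, Cfsg.Agent.LsF.f1af56c_72.2, Cfsg.Agent.LsF.f1af56c_74.2, Cfsg.Agent.LsF.cond_eq, Cfsg.Agent.LsF.bxor_eq]; exact rfl) | exact rfl⟩
private noncomputable def _root_.Cfsg.Agent.LsF.f1af56c_76 : {f // @Cfsg.Agent.MO.S.F42.ex = f} := ⟨_, by first | (delta Cfsg.Agent.MO.S.F42.ex; rewrite [Cfsg.Agent.LsF.flatMap_eq, Cfsg.Agent.LsF.getD_eq]; exact rfl) | exact rfl⟩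
private noncomputable def _root_.Cfsg.Agent.LsF.f1af56c_77 : {f // @Cfsg.Agent.MO.S.F42.eqY = f} := ⟨_, by first | (delta Cfsg.Agent.MO.S.F42.eqY; rewrite [Cfsg.Agent.LsF.f1af56c_75.2, Cfsg.Agent.LsF.f1af56c_76.2, Cfsg.Agent.LsF.lappend_pat, Cfsg.Agent.LsF.and_eq, Cfsg.Agent.LsF.reverse_eq]; exact rfl) | exact rfl⟩
private noncomputable def _root_.Cfsg.Agent.LsF.f1af56c_78 : {f // @Cfsg.Agent.MO.S.Pc.expC = f} := ⟨_, by first | (delta Cfsg.Agent.MO.S.Pc.expC; rewrite [Cfsg.Agent.LsF.f1af56c_5.2, Cfsg.Agent.LsF.all_eq, Cfsg.Agent.LsF.range_eq, Cfsg.Agent.LsF.getD_eq]; exact rfl) | exact rfl⟩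
private noncomputable def _root_.Cfsg.Agent.LsF.f1af56c_79 : {f // @Cfsg.Agent.MO.S.F42.ug = f} := ⟨_, by first | (delta Cfsg.Agent.MO.S.F42.ug; rewrite [Cfsg.Agent.LsF.getD_eq]; exact rfl) | exact rfl⟩
private noncomputable def _root_.Cfsg.Agent.LsF.f1af56c_80 : {f // @Cfsg.Agent.MO.S.Pc.pwd = f} := ⟨_, by first | (delta Cfsg.Agent.MO.S.Pc.pwd; rewrite [Cfsg.Agent.LsF.flatMap_eq, Cfsg.Agent.LsF.replicate_eq, Cfsg.Agent.LsF.range_eq, Cfsg.Agent.LsF.getD_eq, Cfsg.Agent.LsF.length_eq]; exact rfl) | exact rfl⟩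
private noncomputable def _root_.Cfsg.Agent.LsF.f1af56c_81 : {f // @Cfsg.Agent.MO.S.Pc.nrm = f} := ⟨_, by first | (delta Cfsg.Agent.MO.S.Pc.nrm; rewrite [Cfsg.Agent.LsF.f1af56c_80.2, Cfsg.Agent.LsF.lappend_pat, Cfsg.Agent.LsF.and_eq, Cfsg.Agent.LsF.all_eq, Cfsg.Agent.LsF.range_eq, Cfsg.Agent.LsF.getD_eq, Cfsg.Agent.LsF.length_eq]; exact rfl) | exact rfl⟩
private noncomputable def _root_.Cfsg.Agent.LsF.f1af56c_82 : {f // @Cfsg.Agent.MO.S.F42.upB = f} := ⟨_, by first | (delta Cfsg.Agent.MO.S.F42.upB; rewrite [Cfsg.Agent.LsF.f1af56c_79.2, Cfsg.Agent.LsF.f1af56c_5.2, Cfsg.Agent.LsF.f1af56c_81.2, Cfsg.Agent.LsF.nadd_pat, Cfsg.Agent.LsF.lappend_pat, Cfsg.Agent.LsF.and_eq, Cfsg.Agent.LsF.all_eq, Cfsg.Agent.LsF.replicate_eq, Cfsg.Agent.LsF.range_eq, Cfsg.Agent.LsF.getD_eq, Cfsg.Agent.LsF.length_eq]; exact rfl) | exact rfl⟩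
private noncomputable def _root_.Cfsg.Agent.LsF.f1af56c_83 : {f // @Cfsg.Agent.MO.S.Pc.inc = f} := ⟨_, by first | (delta Cfsg.Agent.MO.S.Pc.inc; rewrite [Cfsg.Agent.LsF.and_eq]; exact rfl) | exact rfl⟩
private noncomputable def _root_.Cfsg.Agent.LsF.f1af56c_84 : {f // @Cfsg.Agent.MO.S.Pc.chn = f} := ⟨_, by first | (delta Cfsg.Agent.MO.S.Pc.chn; rewrite [Cfsg.Agent.LsF.f1af56c_5.2, Cfsg.Agent.LsF.f1af56c_83.2, Cfsg.Agent.LsF.and_eq, Cfsg.Agent.LsF.all_eq, Cfsg.Agent.LsF.map_eq]; exact rfl) | exact rfl⟩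
private noncomputable def _root_.Cfsg.Agent.LsF.f1af56c_85 : {f // @Cfsg.Agent.MO.S.F42.lwB = f} := ⟨_, by first | (delta Cfsg.Agent.MO.S.F42.lwB; rewrite [Cfsg.Agent.LsF.f1af56c_84.2, Cfsg.Agent.LsF.and_eq, Cfsg.Agent.LsF.map_eq, Cfsg.Agent.LsF.prod_eq, Cfsg.Agent.LsF.length_eq]; exact rfl) | exact rfl⟩
private noncomputable def _root_.Cfsg.Agent.LsF.f1af56c_86 : {f // @Cfsg.Agent.MO.S.F42.mnB = f} := ⟨_, by first | (delta Cfsg.Agent.MO.S.F42.mnB; rewrite [Cfsg.Agent.LsF.f1af56c_7.2, Cfsg.Agent.LsF.f1af56c_77.2, Cfsg.Agent.LsF.f1af56c_78.2, Cfsg.Agent.LsF.f1af56c_82.2, Cfsg.Agent.LsF.f1af56c_85.2, Cfsg.Agent.LsF.npow_pat, Cfsg.Agent.LsF.and_eq]; exact rfl) | exact rfl⟩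
theorem mn5 : rsF ws5 (mnB ws5 5 2 2 c5 up5 lv5) = true := by ((try (rewrite [Cfsg.Agent.LsF.f1af56c_1.2, Cfsg.Agent.LsF.f1af56c_4.2, Cfsg.Agent.LsF.f1af56c_86.2])); decide +kernel)

theorem bd5 : (rsF ws5 fun Rs => bdB Rs 5 2 2 0 1 1 [7, 9] us5 be5 st5 15 24) = true := by
  decide +kernel

theorem ca5 : chkM 5 2 ((List.range up5.length).map fun j => (ug up5 j).R) (idM 2) pa5 (ord up5 up5.length) 20 = true := by
  decide +kernel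

theorem nb5 : Nat.card (normalizer (V (el ws5) 2 0 : Set LL)) ≤ 5 ^ 2 * ord up5 up5.length :=
  nb_of mn5 bd5 le_rfl le_rfl (by decide +kernel)

theorem lk5 : LK 5 2 LL 20 :=
  have : Fact (Nat.Prime 5) := ⟨Nat.prime_five⟩
  lk_of ok5 mn5 (by decide) (o := 132445064134656) (by norm_num) (by norm_num) nb5 ca5

theorem cb5 : chkM 5 2 ((List.range 4).map fun j => (ug up5 j).R) (idM 2) pb5 (ord up5 4) 16 = true := by decide +kernel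

theorem bt5 : (rsF ws5 fun Rs => ((List.range 6).all fun j => eqY ws5 Rs false [11 + j] [j]) &&
    eqY ws5 Rs true [11 + 6] [6]) = true := by
  ((try (rewrite [Cfsg.Agent.LsF.f1af56c_1.2, Cfsg.Agent.LsF.f1af56c_4.2, Cfsg.Agent.LsF.f1af56c_77.2, Cfsg.Agent.LsF.nadd_pat, Cfsg.Agent.LsF.and_eq, Cfsg.Agent.LsF.all_eq, Cfsg.Agent.LsF.range_eq])); decide +kernel)

theorem fl_zc {Y : Type} [Group Y] {φ : Y →* LL} (h : Cv 2 φ) {l : Y → ℂ} (hl : Fl Y l) : l (zc h) = -1 := by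
  obtain ⟨μ, h1, h2⟩ := hl
  have h3 : μ ⟨_, zc_cen h⟩ * μ ⟨_, zc_cen h⟩ = 1 := by
    rw [← map_mul, ← map_one μ]
    exact congrArg μ (Subtype.ext (zc_sq h))
  refine (h2 ⟨_, zc_cen h⟩).trans ((mul_self_eq_one_iff.1 (by rw [← Units.val_mul, h3, Units.val_one])).resolve_left fun e => zc_ne h ?_)
  exact congrArg Subtype.val (h1 (a₁ := ⟨_, zc_cen h⟩) (a₂ := 1) (Units.ext (by rw [e, map_one, Units.val_one])))

theorem lf5 : LF 5 2 LL 4 := fun Y _ _ φ h _ α hα hn => by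
  have : Fact (Nat.Prime 5) := ⟨Nat.prime_five⟩
  have := finite_LL
  obtain ⟨Q, e1, e2⟩ := base ok5 mn5 (by decide) (o := 132445064134656) (by norm_num) (by norm_num) nb5 ca5 h
  obtain ⟨y, β, -, e4⟩ := exists_aut h (s := s5) (by decide) hn
  obtain ⟨a1, a2⟩ := cnt_one ok5 mn5 h (by decide) cb5
  obtain ⟨b1, b2⟩ := cnt_one ok5 mn5 h le_rfl ca5
  have h3 := bt5
  simp only [rsF_eq, Bool.and_eq_true, List.all_eq_true, List.mem_range] at h3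
  have hk : ∀ j < 7, ws5.getD (11 + j) [] = bw s5 (ws5.getD j []) := by decide +kernel
  have e5 : ∀ j < 7, (MulAut.conj y * α : MulAut Y) (eY h ws5 j) = ev (eY h ws5) [11 + j] := fun j hj => by
    rw [eY, e4 _ (okW_getD ok5 j), ← hk j hj, ev_cons, ev_nil, mul_one, eY]
  have e6 : ∀ u ∈ (V (el ws5) (2 + 4) 0).comap φ, (MulAut.conj y * α : MulAut Y) u = u := by
    rw [← map_V (map_eY h ok5), comap_map_eq, h.ker]
    refine sup_le (b := center Y) (c := (MulAut.conj y * α).toMonoidHom.eqLocus (MonoidHom.id Y))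
      (V_le fun j _ hj => ?_) fun z hz => ?_
    · exact (e5 j (by omega)).trans ((eqY_spec h ok5 _ _ (h3.1 j hj)).trans (by rw [ev_cons, ev_nil, mul_one]; rfl))
    · change (MulAut.conj y * α : MulAut Y) z = z
      rw [MulAut.mul_apply, hα z hz, MulAut.conj_apply, mem_center_iff.1 hz, mul_inv_cancel_right]
  have e7 : V (el ws5) (2 + 4) 0 ≤ V (el ws5) (2 + up5.length) 0 := V_up (by decide)
  have e8 : ((V (el ws5) (2 + 4) 0).comap φ).relIndex ((V (el ws5) (2 + up5.length) 0).comap φ) = 2 := by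
    have e9 := ((V (el ws5) (2 + 4) 0).subgroupOf (V (el ws5) (2 + up5.length) 0)).card_mul_index
    rw [Nat.card_congr (subgroupOfEquivOfLe e7).toEquiv, a1, b1, show ord up5 4 = 48 by decide +kernel,
      show ord up5 up5.length = 96 by decide +kernel] at e9
    rw [relIndex_comap, map_comap_eq_self_of_surjective h.surj, relIndex]
    omega
  refine ⟨Q, y, fun x => ?_, fun l hl => ?_⟩
  · refine MK.T.stab_of_le (fun x hx => ?_) x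
    rwa [e6 x (by
      rw [← map_V (map_eY h ok5)]
      exact le_comap_map φ _ (V_up (by decide) (e1 ▸ hx)))]
  · have e9 := fB_sign (p := 5) (by decide) (comap_mono e7) e8 (h.ker.ge.trans (ker_le_comap φ _)) e6 (a := eY h ws5 6)
      (mem_comap.2 (map_eY h ok5 6 ▸ mem_V (Nat.zero_le _) (by decide))) (zc_cen h)
      ((e5 6 (by decide)).trans ((eqY_sign h ok5 h3.2).trans (by rw [ev_cons, ev_nil, mul_one]; rfl))) (fl_zc h hl) (zc_ne h)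
    rw [a2 l hl, b2 l hl] at e9
    rw [e2]
    omega

end Cfsg.Agent.MO.S.F42
end

-- part: MO/S/F42/L7
section
/-!
# MO, the double cover of `F₄(2)` : the local numbers for the prime 7 (helper33)
-/

set_option autoImplicit false
set_option maxRecDepth 100000
set_option maxHeartbeats 400000

namespace Cfsg.Agent.MO.S.F42

open Cfsg Subgroup Cfsg.Agent.MO.T Cfsg.Agent.MO.S.Pc Cfsg.Agent.FourTwo.Base
open Cfsg.Agent.MK.S.Pc (ev ev_nil ev_cons V mem_V V_le)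
open Cfsg.Agent.MO.L (chkM idM)
open Cfsg.Agent.TAB.F42.G (St finite_LL)

def w7 : List (List ℕ) :=
  [[25, 4, 42], [37, 7, 29], [29, 25, 13, 34, 13, 9, 6, 19, 21, 23, 24, 23, 41, 29, 41, 29, 47, 44], [11, 33, 31, 43,
   30, 33, 28, 14, 8, 7, 2, 0, 30, 29, 21, 20, 15, 25, 22, 21, 23, 24], [27, 24, 7, 46, 38, 33, 27, 10, 30, 7, 5, 20,
   30, 26, 27, 18, 16, 21, 26, 22, 21, 23, 24], [25, 5, 42, 5, 4, 22], [40], [40], [37, 7, 18, 29], [29, 18, 7, 37]]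

def s7 : List ℕ :=
  [13, 34, 13, 9, 17, 30, 20, 17]

def ws7 : List (List ℕ) :=
  w7 ++ (w7.take 6).map (bw s7)

def c7 : Cert :=
  ⟨[[], []], [[[], []], [[], []]], [([], [], []), ([], [], [])]⟩

def up7 : List Ut :=
  [⟨6, [], [[5, 0], [0, 5]], []⟩, ⟨2, [2, 2, 2], [[4, 4], [1, 3]], [[2]]⟩, ⟨2, [3, 3], [[3, 6], [3, 4]], [[2], [3, 3,
   3]]⟩, ⟨3, [], [[4, 0], [0, 1]], [[2], [4, 3, 3], [4, 3]]⟩]

def lv7 : List (ℕ × List (List ℕ)) :=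
  [(25116975, [[0, 0, 1], [0, 0], [1], [0, 1], [], [0], [1, 1]]), (5456918, [[], [0, 0, 0, 0, 0, 1, 1, 1], [0, 0, 0,
   0, 1], [0, 0, 0, 0, 0, 0, 1, 1, 1, 1, 1], [0, 0, 1, 1, 1, 1], [0, 0, 0, 1, 1, 1, 1, 1, 1], [0, 1, 1]])]

def us7 : List (List ℕ) :=
  [[], [6], [8], [8, 6], [6, 8], [8, 8], [6, 8, 6], [6, 8, 8]]

def st7 : List St :=
  [⟨32864315, [80, 8243, 208, 179, 208, 41011, 8499], [80, 80, 16595, 208, 24915, 41427, 33235, 464, 41555, 58067,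
   74579, 91091, 66515, 107603, 83027, 91219, 1104, 83155, 99667, 116179, 140883, 108115, 124627, 141139, 132819],
   1176⟩]

def be7 : List ℕ :=
  [24122343, 49188440, 66850757, 20660278, 4050213, 43027456, 29798209, 61952802, 15592503, 46068434, 41464050,
   65969013, 18684495, 8224884, 1020073, 42030053, 2587765, 13479514, 17855396, 50945088, 54880901, 28072791,
   19913721, 25437760, 66899697, 34185652]

def pa7 : List ℕ :=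
  [1, 1, 2, 2, 2, 0, 3, 0, 4, 4, 0, 0, 0, 3, 4, 0, 0, 4, 4, 0, 0, 0, 3, 2, 0, 4, 3, 0, 4, 0, 0, 0, 4, 2, 4, 0, 0, 3,
   4, 0, 0, 4, 2, 0, 3, 0, 0, 0, 0, 2, 2, 2, 0, 3, 0, 4, 4, 0, 0, 0, 3, 4, 0, 0, 4, 4, 0, 0, 0, 3, 2, 0, 4, 3, 0, 4,
   0, 0, 0, 4, 2, 4, 0, 0, 3, 4, 0, 0, 4, 2, 0, 3, 0, 0, 0, 0, 2, 2, 2, 0, 3, 0, 4, 4, 0, 0, 0, 3, 4, 0, 0, 4, 4, 0,
   0, 0, 3, 2, 0, 4, 3, 0, 4, 0, 0, 0, 4, 2, 4, 0, 0, 3, 4, 0, 0, 4, 2, 0, 3]

def pb7 : List ℕ :=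
  [1, 1, 2, 2, 2, 0, 3, 0, 4, 4, 0, 0, 0, 3, 4, 0, 0, 4, 4, 0, 0, 0, 3, 2, 0, 4, 3, 0, 4, 0, 0, 0, 4, 2, 4, 0, 0, 3,
   4, 0, 0, 4, 2, 0, 3, 0, 0, 0, 0, 2, 2, 2, 0, 3, 0, 4, 4, 0, 0, 0, 3, 4, 0, 0, 4, 4, 0, 0, 0, 3, 2, 0, 4, 3, 0, 4,
   0, 0, 0, 4, 2, 4, 0, 0, 3, 4, 0, 0, 4, 2, 0, 3, 0, 0, 0, 0, 2, 2, 2, 0, 3, 0, 4, 4, 0, 0, 0, 3, 4, 0, 0, 4, 4, 0,
   0, 0, 3, 2, 0, 4, 3, 0, 4, 0, 0, 0, 4, 2, 4, 0, 0, 3, 4, 0, 0, 4, 2, 0, 3]

theorem ok7 : okW ws7 = true := by decide +kernel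

private noncomputable def _root_.Cfsg.Agent.LsF.f1af56c_111 : {f // @Cfsg.Agent.MO.S.F42.ws7 = f} := ⟨_, by first | (delta Cfsg.Agent.MO.S.F42.ws7; rewrite [Cfsg.Agent.LsF.f1af56c_3.2, Cfsg.Agent.LsF.lappend_pat, Cfsg.Agent.LsF.map_eq, Cfsg.Agent.LsF.take_eq]; exact rfl) | exact rfl⟩
theorem mn7 : rsF ws7 (mnB ws7 7 2 2 c7 up7 lv7) = true := by ((try (rewrite [Cfsg.Agent.LsF.f1af56c_1.2, Cfsg.Agent.LsF.f1af56c_111.2, Cfsg.Agent.LsF.f1af56c_86.2])); decide +kernel)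

private noncomputable def _root_.Cfsg.Agent.LsF.f1af56c_87 : {f // @Cfsg.Agent.TAB.F42.G.shF = f} := ⟨_, by first | (delta Cfsg.Agent.TAB.F42.G.shF; (try delta Cfsg.Agent.TAB.F42.G.shF.match_1); (try delta Cfsg.Agent.TAB.F42.G.shF._sparseCasesOn_1); (try delta Cfsg.Agent.TAB.F42.G.shF._sparseCasesOn_2); exact rfl) | exact rfl⟩
private noncomputable def _root_.Cfsg.Agent.LsF.f1af56c_88 : {f // @Cfsg.Agent.TAB.F42.G.crG = f} := ⟨_, by first | (delta Cfsg.Agent.TAB.F42.G.crG; (try delta Cfsg.Agent.TAB.F42.G.shF.match_1); (try delta Cfsg.Agent.TAB.F42.G.shF._sparseCasesOn_1); (try delta Cfsg.Agent.TAB.F42.G.shF._sparseCasesOn_2); exact rfl) | exact rfl⟩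
private noncomputable def _root_.Cfsg.Agent.LsF.f1af56c_89 : {f // @Cfsg.Agent.TAB.F42.G.crF = f} := ⟨_, by first | (delta Cfsg.Agent.TAB.F42.G.crF; rewrite [Cfsg.Agent.LsF.f1af56c_88.2]; (try delta Cfsg.Agent.TAB.F42.G.shF.match_1); (try delta Cfsg.Agent.TAB.F42.G.shF._sparseCasesOn_1); (try delta Cfsg.Agent.TAB.F42.G.shF._sparseCasesOn_2); exact rfl) | exact rfl⟩
private noncomputable def _root_.Cfsg.Agent.LsF.f1af56c_90 : {f // @Cfsg.Agent.TAB.F42.G.opF = f} := ⟨_, by first | (delta Cfsg.Agent.TAB.F42.G.opF; rewrite [Cfsg.Agent.LsF.f1af56c_87.2, Cfsg.Agent.LsF.f1af56c_89.2]; exact rfl) | exact rfl⟩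
private noncomputable def _root_.Cfsg.Agent.LsF.f1af56c_91 : {f // @Cfsg.Agent.TAB.F42.G.runF = f} := ⟨_, by first | (delta Cfsg.Agent.TAB.F42.G.runF; rewrite [Cfsg.Agent.LsF.f1af56c_90.2]; exact rfl) | exact rfl⟩
private noncomputable def _root_.Cfsg.Agent.LsF.f1af56c_92 : {f // @Cfsg.Agent.TAB.F42.G.psF = f} := ⟨_, by first | (delta Cfsg.Agent.TAB.F42.G.psF; rewrite [Cfsg.Agent.LsF.f1af56c_91.2]; exact rfl) | exact rfl⟩
private noncomputable def _root_.Cfsg.Agent.LsF.f1af56c_93 : {f // @Cfsg.Agent.TAB.F42.G.cgF = f} := ⟨_, by first | (delta Cfsg.Agent.TAB.F42.G.cgF; rewrite [Cfsg.Agent.LsF.f1af56c_91.2]; exact rfl) | exact rfl⟩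
private noncomputable def _root_.Cfsg.Agent.LsF.f1af56c_94 : {f // @Cfsg.Agent.TAB.F42.G.chainF = f} := ⟨_, by first | (delta Cfsg.Agent.TAB.F42.G.chainF; rewrite [Cfsg.Agent.LsF.f1af56c_92.2, Cfsg.Agent.LsF.f1af56c_93.2, Cfsg.Agent.LsF.f1af56c_91.2]; exact rfl) | exact rfl⟩
private noncomputable def _root_.Cfsg.Agent.LsF.f1af56c_95 : {f // @Cfsg.Agent.MO.S.F42.iv = f} := ⟨_, by first | (delta Cfsg.Agent.MO.S.F42.iv; rewrite [Cfsg.Agent.LsF.map_eq, Cfsg.Agent.LsF.reverse_eq]; exact rfl) | exact rfl⟩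
private noncomputable def _root_.Cfsg.Agent.LsF.f1af56c_96 : {f // @Cfsg.Agent.MO.S.F42.cjF = f} := ⟨_, by first | (delta Cfsg.Agent.MO.S.F42.cjF; rewrite [Cfsg.Agent.LsF.f1af56c_95.2, Cfsg.Agent.LsF.lappend_pat]; exact rfl) | exact rfl⟩
private noncomputable def _root_.Cfsg.Agent.LsF.f1af56c_97 : {f // @Cfsg.Agent.MO.S.F42.ncF = f} := ⟨_, by first | (delta Cfsg.Agent.MO.S.F42.ncF; rewrite [Cfsg.Agent.LsF.not_eq]; exact rfl) | exact rfl⟩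
private noncomputable def _root_.Cfsg.Agent.LsF.f1af56c_98 : {f // @Cfsg.Agent.MO.S.F42.pwB = f} := ⟨_, by first | (delta Cfsg.Agent.MO.S.F42.pwB; rewrite [Cfsg.Agent.LsF.f1af56c_97.2, Cfsg.Agent.LsF.and_eq, Cfsg.Agent.LsF.or_eq, Cfsg.Agent.LsF.all_eq]; exact rfl) | exact rfl⟩
private noncomputable def _root_.Cfsg.Agent.LsF.f1af56c_99 : {f // @Cfsg.Agent.TAB.F42.G.cX = f} := ⟨_, by first | (delta Cfsg.Agent.TAB.F42.G.cX; rewrite [Cfsg.Agent.LsF.f1af56c_93.2]; exact rfl) | exact rfl⟩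
private noncomputable def _root_.Cfsg.Agent.LsF.f1af56c_100 : {f // @Cfsg.Agent.MO.S.F42.nf = f} := ⟨_, by first | (delta Cfsg.Agent.MO.S.F42.nf; rewrite [Cfsg.Agent.LsF.nadd_pat, Cfsg.Agent.LsF.nsub_pat, Cfsg.Agent.LsF.lappend_pat, Cfsg.Agent.LsF.map_eq, Cfsg.Agent.LsF.flatMap_eq, Cfsg.Agent.LsF.replicate_eq, Cfsg.Agent.LsF.range_eq]; exact rfl) | exact rfl⟩
private noncomputable def _root_.Cfsg.Agent.LsF.f1af56c_101 : {f // @Cfsg.Agent.MO.S.F42.bdB = f} := ⟨_, by first | (delta Cfsg.Agent.MO.S.F42.bdB; rewrite [Cfsg.Agent.LsF.f1af56c_94.2, Cfsg.Agent.LsF.f1af56c_96.2, Cfsg.Agent.LsF.f1af56c_98.2, Cfsg.Agent.LsF.f1af56c_99.2, Cfsg.Agent.LsF.f1af56c_100.2, Cfsg.Agent.LsF.nadd_pat, Cfsg.Agent.LsF.and_eq, Cfsg.Agent.LsF.all_eq, Cfsg.Agent.LsF.any_eq, Cfsg.Agent.LsF.getD_eq, Cfsg.Agent.LsF.countP_eq]; exact rfl) | exact rfl⟩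
theorem bd7 : (rsF ws7 fun Rs => bdB Rs 7 2 2 0 1 1 [6, 8] us7 be7 st7 21 24) = true := by
  ((try (rewrite [Cfsg.Agent.LsF.f1af56c_1.2, Cfsg.Agent.LsF.f1af56c_111.2, Cfsg.Agent.LsF.f1af56c_101.2])); decide +kernel)

theorem ca7 : chkM 7 2 ((List.range up7.length).map fun j => (ug up7 j).R) (idM 2) pa7 (ord up7 up7.length) 27 = true := by
  decide +kernel

theorem nb7 : Nat.card (normalizer (V (el ws7) 2 0 : Set LL)) ≤ 7 ^ 2 * ord up7 up7.length :=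
  nb_of mn7 bd7 le_rfl le_rfl (by decide +kernel)

theorem lk7 : LK 7 2 LL 27 :=
  have : Fact (Nat.Prime 7) := ⟨by norm_num⟩
  lk_of ok7 mn7 (by decide) (o := 67574012313600) (by norm_num) (by norm_num) nb7 ca7

private noncomputable def _root_.Cfsg.Agent.LsF.f1af56c_112 : {f // @Cfsg.Agent.MO.S.F42.btB = f} := ⟨_, by first | (delta Cfsg.Agent.MO.S.F42.btB; rewrite [Cfsg.Agent.LsF.f1af56c_80.2, Cfsg.Agent.LsF.f1af56c_5.2, Cfsg.Agent.LsF.nadd_pat, Cfsg.Agent.LsF.and_eq, Cfsg.Agent.LsF.all_eq, Cfsg.Agent.LsF.range_eq, Cfsg.Agent.LsF.getD_eq, Cfsg.Agent.LsF.length_eq]; exact rfl) | exact rfl⟩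
theorem bt7 : (rsF ws7 fun Rs => btB (eqY ws7 Rs false) 2 up7.length 10
    [[0, 4], [6, 0]]
    [[2], [3, 3, 3], [3, 4], [5, 5, 2, 2]]) = true := by
  ((try (rewrite [Cfsg.Agent.LsF.f1af56c_1.2, Cfsg.Agent.LsF.f1af56c_111.2, Cfsg.Agent.LsF.f1af56c_112.2, Cfsg.Agent.LsF.f1af56c_77.2, Cfsg.Agent.LsF.length_eq])); decide +kernel)

private noncomputable def _root_.Cfsg.Agent.LsF.f1af56c_102 : {f // @Cfsg.Agent.MO.L.img = f} := ⟨_, by first | (delta Cfsg.Agent.MO.L.img; rewrite [Cfsg.Agent.LsF.getD_eq]; exact rfl) | exact rfl⟩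
private noncomputable def _root_.Cfsg.Agent.LsF.f1af56c_103 : {f // @Cfsg.Agent.MO.L.tab = f} := ⟨_, by first | (delta Cfsg.Agent.MO.L.tab; rewrite [Cfsg.Agent.LsF.f1af56c_102.2, Cfsg.Agent.LsF.npow_pat]; exact rfl) | exact rfl⟩
private noncomputable def _root_.Cfsg.Agent.LsF.f1af56c_104 : {f // @Cfsg.Agent.MO.L.gensK = f} := ⟨_, by first | (delta Cfsg.Agent.MO.L.gensK; rewrite [Cfsg.Agent.LsF.f1af56c_103.2, Cfsg.Agent.LsF.npow_pat]; exact rfl) | exact rfl⟩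
private noncomputable def _root_.Cfsg.Agent.LsF.f1af56c_105 : {f // @Cfsg.Agent.MO.L.run = f} := ⟨_, by first | (delta Cfsg.Agent.MO.L.run; rewrite [Cfsg.Agent.LsF.getD_eq]; exact rfl) | exact rfl⟩
private noncomputable def _root_.Cfsg.Agent.LsF.f1af56c_106 : {f // @Cfsg.Agent.MO.L.lst = f} := ⟨_, by first | (delta Cfsg.Agent.MO.L.lst; rewrite [Cfsg.Agent.LsF.f1af56c_105.2]; exact rfl) | exact rfl⟩
private noncomputable def _root_.Cfsg.Agent.LsF.f1af56c_107 : {f // @Cfsg.Agent.MO.L.chk = f} := ⟨_, by first | (delta Cfsg.Agent.MO.L.chk; rewrite [Cfsg.Agent.LsF.f1af56c_106.2, Cfsg.Agent.LsF.and_eq, Cfsg.Agent.LsF.length_eq]; exact rfl) | exact rfl⟩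
private noncomputable def _root_.Cfsg.Agent.LsF.f1af56c_108 : {f // @Cfsg.Agent.MO.L.chkM = f} := ⟨_, by first | (delta Cfsg.Agent.MO.L.chkM; rewrite [Cfsg.Agent.LsF.f1af56c_103.2, Cfsg.Agent.LsF.f1af56c_104.2, Cfsg.Agent.LsF.f1af56c_107.2, Cfsg.Agent.LsF.nmul_pat, Cfsg.Agent.LsF.nmod_pat, Cfsg.Agent.LsF.npow_pat, Cfsg.Agent.LsF.nbne_pat, Cfsg.Agent.LsF.and_eq, Cfsg.Agent.LsF.all_eq, Cfsg.Agent.LsF.map_eq, Cfsg.Agent.LsF.range_eq]; exact rfl) | exact rfl⟩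
private noncomputable def _root_.Cfsg.Agent.LsF.f1af56c_110 : {f // @Cfsg.Agent.MO.S.F42.ord = f} := ⟨_, by first | (delta Cfsg.Agent.MO.S.F42.ord; rewrite [Cfsg.Agent.LsF.f1af56c_79.2, Cfsg.Agent.LsF.map_eq, Cfsg.Agent.LsF.range_eq, Cfsg.Agent.LsF.prod_eq]; exact rfl) | exact rfl⟩
theorem lf7 : LF 7 2 LL 9 :=
  have : Fact (Nat.Prime 7) := ⟨by norm_num⟩
  lf_of ok7 mn7 (by decide) (o := 67574012313600) (by norm_num) (by norm_num) nb7 ca7 (s := s7) (by decide) (by decide +kernel) bt7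
    (prog' := pb7) (by ((try (rewrite [Cfsg.Agent.LsF.f1af56c_108.2, Cfsg.Agent.LsF.f1af56c_79.2, Cfsg.Agent.LsF.f1af56c_110.2, Cfsg.Agent.LsF.map_eq, Cfsg.Agent.LsF.range_eq, Cfsg.Agent.LsF.length_eq])); decide +kernel))

end Cfsg.Agent.MO.S.F42
end

-- part: MO/S/F42/Loc
section
/-!
# MO, the double cover of `F₄(2)` : the rows from the numbers of the table (helper33)
-/

set_option autoImplicit false
set_option maxRecDepth 10000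
set_option maxHeartbeats 400000

namespace Cfsg.Agent.MO.S.F42

open Cfsg Cfsg.Lie Cfsg.Agent.MO.T

variable (F : Type) [Field F] [Fintype F] (hF : Fintype.card F = 2)

include hF

theorem smC_of {p c c' : ℕ} [Fact p.Prime] (lk : LK p 2 FourTwo.Base.LL c) (lf : LF p 2 FourTwo.Base.LL c')
    (gk : GK p 2 (chevF4.group F) c) (gf : GF p 2 (chevF4.group F) c') : SmC p 2 (chevF4.group F) := by
  obtain ⟨e⟩ := TAB.F42.iso F hF
  exact smC_of_counts (OutC.congr (S' := FourTwo.Base.LL) e.symm outC) gk (LK.congr (S' := FourTwo.Base.LL) e.symm lk) gf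
    (LF.congr (S' := FourTwo.Base.LL) e.symm lf)

theorem smC3 (gk : GK 3 2 (chevF4.group F) 27) (gf : GF 3 2 (chevF4.group F) 9) : SmC 3 2 (chevF4.group F) :=
  have : Fact (Nat.Prime 3) := ⟨Nat.prime_three⟩
  smC_of F hF lk3 lf3 gk gf

theorem smC5 (gk : GK 5 2 (chevF4.group F) 20) (gf : GF 5 2 (chevF4.group F) 4) : SmC 5 2 (chevF4.group F) :=
  have : Fact (Nat.Prime 5) := ⟨Nat.prime_five⟩
  smC_of F hF lk5 lf5 gk gf

theorem smC7 (gk : GK 7 2 (chevF4.group F) 27) (gf : GF 7 2 (chevF4.group F) 9) : SmC 7 2 (chevF4.group F) :=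
  have : Fact (Nat.Prime 7) := ⟨by norm_num⟩
  smC_of F hF lk7 lf7 gk gf

end Cfsg.Agent.MO.S.F42
end
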