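import Cfsg.Agent.MQ.S.F42.Cov
import Cfsg.Agent.TAB.F42.G.K2
import Cfsg.Agent.Prune
set_option linter.all false
prune_inst 0x7f00000000000000000000000000000000000000000000000000000000000000000000000000000000000000000000000000000000000000000000000000000000000000000000000000000000000000003fffffffffffffffffffffffffffbeffbdffffffff
open scoped Cfsg.Agent.FastGrp

-- part: MO/S/F42/Chk
section
/-!
# MO, the double cover of `F₄(2)` : the checks (helper33)

* `el ws`, `eY h ws` : the letters in the group and in the cover; `rsF`, `prF` : their matrices;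
* `eqS`, `eqY` : the equality of two words; `bdB` : the bound of the normaliser; `btB` : the automorphism;
* `base`, `lk_of`, `lf_of` : the local numbers.
-/

set_option autoImplicit false
set_option maxRecDepth 10000
set_option maxHeartbeats 400000

namespace Cfsg.Agent.MO.S.F42

open Cfsg Subgroup Cfsg.Agent.MO.T Cfsg.Agent.MO.S.Pc Cfsg.Agent.FourTwo.Base
open Cfsg.Agent.FourTwo.AutF4 (gam)
open Cfsg.Agent.MK.S.Pc (ev ev_nil ev_cons ev_append V mem_V V_le V_mono ev_mem conj_V inR inR_mem)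
open Cfsg.Agent.MO.L (Loc Mt chkM idM)
open Cfsg.Agent.TAB.F42.G (Rows wdF wdF_spec unR rows_one map_xF ap L L_lt L_one L_mul ap_two_pow St chainF prX PX allM
  cent_le' lanesX cX cX_eq pF cg_conj card_LL finite_LL wd_rev dot code testBit_xc rows rows_x value_eq dot_congr)
open Cfsg.Agent.H123.Cls (mapF mapF_eq xF xc eqL eqL_eq cdF cdF_eq cmb testBit_value)
open Cfsg.Agent.Lib.BitNetSimple (force force_eq)

variable {Y : Type} [Group Y] {φ : Y →* LL} {ws : List (List ℕ)}

/-- the letters -/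
noncomputable def el (ws : List (List ℕ)) (i : ℕ) : LL := wd (ws.getD i [])

/-- the letters in the cover -/
noncomputable def eY (h : Cv 2 φ) (ws : List (List ℕ)) (i : ℕ) : Y := W h (ws.getD i [])

/-- the words are in the range -/
def okW (ws : List (List ℕ)) : Bool := ws.all fun w => w.all fun r => Nat.blt r 48

/-- the expansion of a word -/
def ex (ws : List (List ℕ)) (u : List ℕ) : List ℕ := u.flatMap fun i => ws.getD i []

theorem okW_getD (h : okW ws = true) (i : ℕ) : ∀ r ∈ ws.getD i [], r < 48 := fun r hr => by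
  rw [List.getD_eq_getElem?_getD] at hr
  rcases h1 : ws[i]? with _ | w
  · rw [h1] at hr
    exact absurd hr List.not_mem_nil
  · rw [h1] at hr
    exact Nat.blt_eq.mp (List.all_eq_true.1 (List.all_eq_true.1 h w (List.mem_of_getElem? h1)) r hr)

theorem ex_lt (h : okW ws = true) (u : List ℕ) : ∀ r ∈ ex ws u, r < 48 := fun r hr =>
  (List.mem_flatMap.1 hr).elim fun i hi => okW_getD h i r hi.2

theorem map_eY (h : Cv 2 φ) (hw : okW ws = true) (i : ℕ) : φ (eY h ws i) = el ws i := map_W h (okW_getD hw i)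

theorem W_ex (h : Cv 2 φ) : ∀ u, W h (ex ws u) = ev (eY h ws) u
  | [] => rfl
  | a :: u => by rw [ev_cons, ← W_ex h u, ex, List.flatMap_cons, W_append]; rfl

/-! ### matrices -/

/-- a row of a packed matrix -/
private def dg (P i : ℕ) : ℕ := Nat.mod (Nat.shiftRight P (Nat.mul 26 i)) 67108864

/-- the rows of a packed matrix -/
private def un (P : ℕ) : List ℕ := (List.range 26).map (dg P)

private noncomputable def unF {α : Type} (P : ℕ) (κ : List ℕ → α) : α :=
  mapF (dg P) [0, 1, 2, 3, 4, 5, 6, 7, 8, 9, 10, 11, 12, 13, 14, 15, 16, 17, 18, 19, 20, 21, 22, 23, 24, 25] κ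

private theorem unF_eq {α : Type} (P : ℕ) (κ : List ℕ → α) : unF P κ = κ (un P) := mapF_eq _ _ _

/-- the mask -/
private def mk : ℕ → ℕ := Nat.rec 0 fun _ m => 2 ^ 26 * m + 1

private theorem bit_mk {c : ℕ} (hc : c < 2 ^ 26) {j : ℕ} (hj : j < 26) : ∀ (n A i : ℕ), i < n →
    (c * (A &&& mk n)).testBit (26 * i + j) = (A.testBit (26 * i) && c.testBit j)
  | n + 1, A, i, hi => by
    have h2 : A % 2 < 2 ^ 26 := by omega
    have e : A &&& mk (n + 1) = 2 ^ 26 * ((A >>> 26) &&& mk n) + A % 2 := Nat.eq_of_testBit_eq fun k => by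
      rw [Nat.testBit_and, show mk (n + 1) = 2 ^ 26 * mk n + 1 from rfl, Nat.testBit_two_pow_mul_add _ h2,
        Nat.testBit_two_pow_mul_add _ (show 1 < 2 ^ 26 by norm_num)]
      split_ifs with h
      · rw [← Nat.and_one_is_mod, Nat.testBit_and]
      · rw [Nat.testBit_and, Nat.testBit_shiftRight, Nat.add_sub_cancel' (not_lt.1 h)]
    have h3 : c * (A % 2) < 2 ^ 26 := by
      rcases Nat.mod_two_eq_zero_or_one A with h | h <;> rw [h] <;> omega
    rw [e, mul_add, mul_left_comm, Nat.testBit_two_pow_mul_add _ h3]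
    rcases i with _ | i
    · rw [if_pos (by omega), Nat.mul_zero, Nat.zero_add, Nat.testBit_zero]
      rcases Nat.mod_two_eq_zero_or_one A with h | h <;> simp [h]
    · rw [if_neg (by omega), show 26 * (i + 1) + j - 26 = 26 * i + j by omega, bit_mk hc hj n _ i (by omega),
        Nat.testBit_shiftRight, show 26 + 26 * i = 26 * (i + 1) by omega]

/-- a packed matrix times a matrix -/
private noncomputable def mq (l : List ℕ) : ℕ → ℕ :=
  List.rec (fun _ => 0) (fun C _ ih A => Nat.xor (Nat.mul (Nat.mod C 67108864) (Nat.land A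
    0x4000001000000400000100000040000010000004000001000000400000100000040000010000004000001000000400000100000040000010000004000001000000400000100000040000010000004000001)) (ih (Nat.shiftRight A 1))) l

private theorem bit_mq {i j : ℕ} (hi : i < 26) (hj : j < 26) : ∀ (l : List ℕ) (A : ℕ),
    (mq l A).testBit (26 * i + j) = (xc l (A >>> (26 * i))).testBit j
  | [], _ => (Nat.zero_testBit _).trans (Nat.zero_testBit _).symm
  | C :: l, A => by
    have e : mk 26 = 0x4000001000000400000100000040000010000004000001000000400000100000040000010000004000001000000400000100000040000010000004000001000000400000100000040000010000004000001 := by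
      decide +kernel
    have e1 : mq (C :: l) A = (C % 2 ^ 26 * (A &&& mk 26)) ^^^ mq l (A >>> 1) := by rw [e]; rfl
    have e2 : xc (C :: l) (A >>> (26 * i)) =
      (bif (A >>> (26 * i)).testBit 0 then C else 0) ^^^ xc l (A >>> (26 * i) >>> 1) := rfl
    rw [e1, e2, Nat.testBit_xor, Nat.testBit_xor, bit_mq hi hj l, bit_mk (Nat.mod_lt _ (by norm_num)) hj 26 A i hi,
      ← Nat.shiftRight_add, ← Nat.shiftRight_add, add_comm 1, Nat.testBit_shiftRight, Nat.add_zero, Nat.testBit_mod_two_pow]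
    cases A.testBit (26 * i) <;> simp [hj]

private theorem dot_left : ∀ (n : ℕ) {a b : ℕ} (c : ℕ), (∀ k < n, a.testBit k = b.testBit k) → dot n a c = dot n b c
  | 0, _, _, _, _ => rfl
  | n + 1, a, b, c, h => by
    change xor (a.testBit 0 && c.testBit 0) (dot n (a >>> 1) (c >>> 1)) = xor (b.testBit 0 && c.testBit 0) (dot n (b >>> 1) (c >>> 1))
    rw [h 0 (Nat.succ_pos n), dot_left n (a := a >>> 1) (b := b >>> 1) _ fun k hk => by
      rw [Nat.testBit_shiftRight, Nat.testBit_shiftRight, h _ (by omega)]]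

private theorem bit_dg (P i : ℕ) {j : ℕ} (hj : j < 26) : (dg P i).testBit j = (P >>> (26 * i)).testBit j := by
  change ((P >>> (26 * i)) % 2 ^ 26).testBit j = _
  rw [Nat.testBit_mod_two_pow, decide_eq_true hj, Bool.true_and]

private theorem bit_un {B : List ℕ} (hB : B.length = 26) (P : ℕ) {i j : ℕ} (hi : i < 26) (hj : j < 26) :
    (dg (mq B P) i).testBit j = (xc B (dg P i)).testBit j := by
  rw [bit_dg _ _ hj, Nat.testBit_shiftRight, bit_mq hi hj, testBit_xc, testBit_xc, hB]
  exact dot_left 26 _ fun k hk => (bit_dg P i hk).symm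

private theorem rows_mq {a b : LL} {P : ℕ} {B : List ℕ} (ha : Rows a (un P)) (hb : Rows b B) : Rows (a * b) (un (mq B P)) := by
  refine ⟨(List.length_map _).trans List.length_range, Eq.trans (funext fun c => congrArg code ?_) (ha.mul hb).2⟩
  rw [un, un, List.map_map, List.map_map, List.map_map]
  exact List.map_congr_left fun i hi => dot_left 26 c fun k hk => bit_un hb.1 P (List.mem_range.1 hi) hk

/-- a packed matrix times a word -/
private noncomputable def prQ (f : ℕ → List ℕ) (u : List ℕ) : ℕ → ℕ :=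
  List.rec (fun P => P) (fun i _ ih P => force (mq (f i) P) ih) u

private theorem rows_prQ {f : ℕ → List ℕ} {y : ℕ → LL} (h : ∀ i, Rows (y i) (f i)) (u : List ℕ) :
    ∀ {g : LL} {P : ℕ}, Rows g (un P) → Rows (g * ev y u) (un (prQ f u P)) := by
  induction u with
  | nil =>
    intro g P hP
    rw [ev_nil, mul_one]
    exact hP
  | cons i u ih =>
    intro g P hP
    have e : prQ f (i :: u) P = prQ f u (mq (f i) P) := force_eq (mq (f i) P) (prQ f u)
    rw [ev_cons, ← mul_assoc, e]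
    exact ih (rows_mq hP (h i))

/-- the unit matrix -/
private def oneQ : ℕ := 0x8000001000000200000040000008000001000000200000040000008000001000000200000040000008000001000000200000040000008000001000000200000040000008000001000000200000040000008000001

private theorem rows_word {f : ℕ → List ℕ} {y : ℕ → LL} (h : ∀ i, Rows (y i) (f i)) (u : List ℕ) :
    Rows (ev y u) (un (prQ f u oneQ)) := by
  have := rows_prQ h u (g := 1) (P := oneQ) ((show un oneQ = unR by decide +kernel) ▸ rows_one)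
  rwa [one_mul] at this

/-- the matrices of the letters -/
noncomputable def rs (ws : List (List ℕ)) : List (List ℕ) := ws.map fun w => un (prQ rows w oneQ)

noncomputable def rsF (ws : List (List ℕ)) : (List (List ℕ) → Bool) → Bool :=
  List.rec (fun κ => κ []) (fun w _ ih κ => force (prQ rows w oneQ) fun P => unF P fun R => ih fun Rs => κ (R :: Rs)) ws

theorem rsF_eq : ∀ (ws : List (List ℕ)) (κ : List (List ℕ) → Bool), rsF ws κ = κ (rs ws)
  | [], _ => rfl
  | w :: ws, κ => by
    change (force (prQ rows w oneQ) fun P => unF P fun R => rsF ws fun Rs => κ (R :: Rs)) = κ (un (prQ rows w oneQ) :: rs ws)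
    rw [force_eq, unF_eq, rsF_eq ws]

private theorem wd_ev : ∀ w : List ℕ, wd w = ev x w
  | [] => wd_nil
  | r :: w => by rw [wd_cons, ev_cons, wd_ev w]

theorem rows_rs : ∀ (ws : List (List ℕ)) (i : ℕ), Rows (el ws i) ((rs ws).getD i unR)
  | [], _ => rows_one
  | w :: _, 0 => by
    change Rows (wd w) (un (prQ rows w oneQ))
    rw [wd_ev]
    exact rows_word rows_x w
  | _ :: ws, i + 1 => rows_rs ws i

/-- the packed matrix of a word -/
private noncomputable def pq (Rs : List (List ℕ)) (u : List ℕ) : ℕ := prQ (fun i => Rs.getD i unR) u oneQ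

private theorem rows_pq (ws : List (List ℕ)) (u : List ℕ) : Rows (ev (el ws) u) (un (pq (rs ws) u)) := rows_word (rows_rs ws) u

/-- the matrix of a word -/
noncomputable def prF {α : Type} (Rs : List (List ℕ)) (u : List ℕ) (κ : List ℕ → α) : α :=
  force (pq Rs u) fun P => unF P κ

private theorem prF_un {α : Type} (Rs : List (List ℕ)) (u : List ℕ) (κ : List ℕ → α) : prF Rs u κ = κ (un (pq Rs u)) :=
  (force_eq _ _).trans (unF_eq _ _)

theorem prF_eq {α : Type} (Rs : List (List ℕ)) (u : List ℕ) (κ : List ℕ → α) : prF Rs u κ = κ (prF Rs u id) := by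
  rw [prF_un, prF_un, id]

theorem rows_pr (ws : List (List ℕ)) (u : List ℕ) : Rows (ev (el ws) u) (prF (rs ws) u id) := by
  rw [prF_un, id]
  exact rows_pq ws u

/-- the image of a code -/
private noncomputable def apQ (P c : ℕ) : ℕ :=
  mapF (Nat.shiftRight c) [0, 1, 2, 3, 4, 5, 6, 7, 8, 9, 10, 11, 12, 13, 14, 15, 16, 17, 18, 19, 20, 21, 22, 23, 24, 25] fun S =>
    force (mq S P) fun Q => unF Q fun R => cdF R 0

private theorem apQ_eq (P c : ℕ) : apQ P c = ap (un P) c := by
  have hS : ((List.range 26).map (Nat.shiftRight c)).length = 26 := (List.length_map _).trans List.length_range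
  refine (mapF_eq _ _ _).trans ((force_eq _ _).trans ((unF_eq _ _).trans ((cdF_eq _ _).trans ((value_eq _ _).trans
    (congrArg code ?_)))))
  rw [un, un, List.map_map, List.map_map]
  refine List.map_congr_left fun i hi => (bit_un hS P (List.mem_range.1 hi) (by norm_num)).trans ?_
  rw [testBit_xc, hS]
  refine dot_congr 26 _ fun k hk => ?_
  rw [testBit_value, List.getD_eq_getElem _ _ (hS ▸ hk), List.getElem_map, List.getElem_range]
  exact Nat.testBit_shiftRight c

theorem rows_inj {a b : LL} {A : List ℕ} (ha : Rows a A) (hb : Rows b A) : a = b :=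
  (inv_mul_eq_one.1 (TAB.F42.G.eq_one fun k hk => by
    rw [_root_.Cfsg.Agent.TAB.F42.G.L_mul, ← hb.2, ha.2, TAB.F42.G.L_inv a (Nat.pow_lt_pow_right (by norm_num) hk)]))

/-- equality in the group -/
noncomputable def eqS (Rs : List (List ℕ)) (u v : List ℕ) : Bool := Nat.beq (pq Rs u) (pq Rs v)

theorem eqS_spec (u v : List ℕ) (h : eqS (rs ws) u v = true) : ev (el ws) u = ev (el ws) v := by
  exact rows_inj (rows_pq ws u) (Nat.eq_of_beq_eq_true h ▸ rows_pq ws v)

/-- equality in the cover, up to a given sign -/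
noncomputable def eqY (ws Rs : List (List ℕ)) (b : Bool) (u v : List ℕ) : Bool :=
  eqS Rs u v && sgB (ex ws u ++ (ex ws v).reverse) b

theorem eqY_sign (h : Cv 2 φ) (hw : okW ws = true) {b : Bool} {u v : List ℕ} (e : eqY ws (rs ws) b u v = true) :
    ev (eY h ws) u = (bif b then zc h else 1) * ev (eY h ws) v := by
  rw [eqY, Bool.and_eq_true] at e
  have h1 : ∀ r ∈ ex ws u ++ (ex ws v).reverse, r < 48 :=
    List.forall_mem_append.2 ⟨ex_lt hw u, fun r hr => ex_lt hw v r (List.mem_reverse.1 hr)⟩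
  have h2 : W h (ex ws u ++ (ex ws v).reverse) = ev (eY h ws) u * (ev (eY h ws) v)⁻¹ := by
    rw [W_append, W_rev h (ex_lt hw v), W_ex, W_ex]
  rw [← W_eq h h1 (by
    rw [← map_W h h1, h2, map_mul, map_inv, map_ev (map_eY h hw), map_ev (map_eY h hw), eqS_spec u v e.1,
      mul_inv_cancel]) e.2, h2, inv_mul_cancel_right]

theorem eqY_spec (h : Cv 2 φ) (hw : okW ws = true) (u v : List ℕ) (e : eqY ws (rs ws) false u v = true) :
    ev (eY h ws) u = ev (eY h ws) v := (eqY_sign h hw e).trans (one_mul _)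

theorem eqY_el {b : Bool} (u v : List ℕ) (e : eqY ws (rs ws) b u v = true) : ev (el ws) u = ev (el ws) v :=
  eqS_spec u v (Bool.and_eq_true_iff.1 e).1

/-! ### bounds -/

/-- the action on the codes -/
@[reducible] noncomputable def actL : MulAction LL {c : ℕ // c < 2 ^ 26} where
  smul g c := ⟨L g c, L_lt g c⟩
  one_smul c := Subtype.ext (L_one c.2)
  mul_smul g h c := Subtype.ext (_root_.Cfsg.Agent.TAB.F42.G.L_mul g h c)

/-- the check of the lower bound -/
noncomputable def lwB (Rs : List (List ℕ)) (n N : ℕ) (lv : List (ℕ × List (List ℕ))) : Bool :=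
  chn (fun w c => force (pq Rs w) fun P => apQ P c) (fun c => Nat.blt c 67108864) n lv [] &&
    Nat.ble N (lv.map fun v => v.2.length).prod

theorem lwB_spec {n N : ℕ} {lv : List (ℕ × List (List ℕ))} (h : lwB (rs ws) n N lv = true) :
    N ≤ Nat.card (V (el ws) n 0) := by
  have := finite_LL
  let _ := actL
  exact card_ge (Ω := {c : ℕ // c < 2 ^ 26}) (im := fun w c => force (pq (rs ws) w) fun P => apQ P c)
    (ok := fun c => Nat.blt c 67108864) Subtype.val_injective
    (fun c hc => ⟨⟨c, (Nat.blt_eq.mp hc).trans_le (by norm_num)⟩, rfl⟩)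
    (fun w _ x => by rw [force_eq, apQ_eq, (rows_pq ws w).2]; rfl) h

private theorem bit_rows {g : LL} {P : ℕ} (h : Rows g (un P)) {p : ℕ} (hp : p < 676) :
    P.testBit p = (L g (2 ^ (p % 26))).testBit (p / 26) := by
  have h1 : p % 26 < 26 := Nat.mod_lt _ (by norm_num)
  have h2 : p / 26 < (un P).length := by rw [h.1]; omega
  rw [← h.2, ap_two_pow _ h1, testBit_value, List.getD_eq_getElem _ _ h2]
  simp only [un, List.getElem_map, List.getElem_range]
  rw [bit_dg _ _ h1, Nat.testBit_shiftRight, Nat.div_add_mod]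

/-- two matrices do not commute -/
noncomputable def ncF (A B : ℕ) : Bool := unF A fun A' => unF B fun B' =>
  !Nat.beq (Nat.mod (mq B' A) (Nat.pow 2 676)) (Nat.mod (mq A' B) (Nat.pow 2 676))

theorem ncF_spec {a b : LL} {A B : ℕ} (ha : Rows a (un A)) (hb : Rows b (un B)) (h : ncF A B = true) : ¬ Commute a b := fun e => by
  have h1 : mq (un B) A % 2 ^ 676 = mq (un A) B % 2 ^ 676 := Nat.eq_of_testBit_eq fun p => by
    rw [Nat.testBit_mod_two_pow, Nat.testBit_mod_two_pow]
    by_cases hp : p < 676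
    · rw [bit_rows (rows_mq ha hb) hp, bit_rows (rows_mq hb ha) hp, e.eq]
    · rw [decide_eq_false hp, Bool.false_and, Bool.false_and]
  rw [ncF, unF_eq, unF_eq] at h
  replace h : (!Nat.beq (mq (un B) A % 2 ^ 676) (mq (un A) B % 2 ^ 676)) = true := h
  rw [h1, Nat.beq_refl] at h
  exact absurd h (by decide)

/-- the inverse word -/
def iv (u : List ℕ) : List ℕ := u.reverse.map Nat.succ

noncomputable def cjF (Rs : List (List ℕ)) (y y' : ℕ) (us : List (List ℕ)) : (List (ℕ × ℕ) → Bool) → Bool :=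
  List.rec (fun κ => κ []) (fun u _ ih κ => force (pq Rs (u ++ y :: iv u)) fun A => force (pq Rs (u ++ y' :: iv u)) fun B =>
    ih fun l => κ ((A, B) :: l)) us

theorem cjF_eq (Rs : List (List ℕ)) (y y' : ℕ) : ∀ (us : List (List ℕ)) (κ : List (ℕ × ℕ) → Bool),
    cjF Rs y y' us κ = κ (us.map fun u => (pq Rs (u ++ y :: iv u), pq Rs (u ++ y' :: iv u)))
  | [], _ => rfl
  | u :: us, κ => by
    change (force (pq Rs (u ++ y :: iv u)) fun A => force (pq Rs (u ++ y' :: iv u)) fun B =>
      cjF Rs y y' us fun l => κ ((A, B) :: l)) = _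
    rw [force_eq, force_eq, cjF_eq Rs y y' us]
    rfl

noncomputable def pwB (l : List (ℕ × ℕ)) : Bool :=
  List.rec true (fun a l ih => (l.all fun b => ncF a.1 b.1 || ncF a.2 b.2 || ncF a.1 b.2) && ih) l

theorem pwB_spec : ∀ {l : List (ℕ × ℕ)}, pwB l = true →
    l.Pairwise fun a b => (ncF a.1 b.1 || ncF a.2 b.2 || ncF a.1 b.2) = true
  | [], _ => List.Pairwise.nil
  | _ :: _, h => List.Pairwise.cons (List.all_eq_true.1 (Bool.and_eq_true_iff.1 h).1) (pwB_spec (Bool.and_eq_true_iff.1 h).2)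

/-- the check of the upper bound -/
noncomputable def bdB (Rs : List (List ℕ)) (p n d z y y' : ℕ) (cs : List ℕ) (us : List (List ℕ)) (β : List ℕ) (st : List St)
    (a o : ℕ) : Bool :=
  chainF prX PX (allM 69615) (cmb 18 13) (Rs.getD z unR) β st [] &&
    (cs.all fun j => eqS Rs [j, j + 1] [] && eqS Rs [j, z] [z, j]) && (us.all fun u => u.all fun j => cs.any (Nat.beq j)) &&
    cjF Rs y y' us pwB && Nat.beq (cX pF (Rs.getD z unR)) a &&
    Nat.ble ((nf p n d).countP fun u => prF Rs u fun A => Nat.beq (cX pF A) a) o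

theorem bdB_spec {p n m d z y y' : ℕ} {cs : List ℕ} {us : List (List ℕ)} {β : List ℕ} {st : List St} {a o : ℕ}
    (h : bdB (rs ws) p n d z y y' cs us β st a o = true) (pc : PC p (el ws) n m) (hd : d ≤ n) {N D : Subgroup LL}
    (h1 : N ≤ normalizer (V (el ws) n (n - d) : Set LL)) (hz : el ws z ∈ V (el ws) n (n - d))
    (h2 : N ≤ normalizer (D : Set LL)) (h3 : ∀ a ∈ D, ∀ b ∈ D, Commute a b) (hy : el ws y ∈ D) (hy' : el ws y' ∈ D) :
    Nat.card N * us.length ≤ o * (st.map St.c).prod := by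
  have := finite_LL
  simp only [bdB, Bool.and_eq_true, List.all_eq_true, any_beq, Nat.beq_eq, Nat.ble_eq, cjF_eq] at h
  obtain ⟨⟨⟨⟨⟨k1, k2⟩, k3⟩, k4⟩, k5⟩, k6⟩ := h
  have e1 : ∀ u : List ℕ, (∀ j ∈ u, j ∈ cs) → ev (el ws) (iv u) = (ev (el ws) u)⁻¹ ∧ Commute (ev (el ws) u) (el ws z) :=
    fun u hu => by
    induction u with
    | nil => exact ⟨inv_one.symm, Commute.one_left _⟩
    | cons j u ih =>
      obtain ⟨e2, e3⟩ := ih fun i hi => hu i (List.mem_cons_of_mem _ hi)
      have e4 := eqS_spec _ _ (k2 j (hu j List.mem_cons_self)).1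
      have e5 := eqS_spec _ _ (k2 j (hu j List.mem_cons_self)).2
      simp only [ev_cons, ev_nil, mul_one] at e4 e5
      rw [iv, List.reverse_cons, List.map_append, ev_append, ← iv, e2, List.map_singleton, ev_cons, ev_cons, ev_nil, mul_one,
        mul_inv_rev, eq_inv_of_mul_eq_one_right e4]
      exact ⟨rfl, Commute.mul_left e5 e3⟩
  have e2 : ∀ u ∈ us, ∀ v ∈ us, (ev (el ws) u)⁻¹ * ev (el ws) v ∈ N → ∀ i j, el ws i ∈ D → el ws j ∈ D →
      ¬ ncF (pq (rs ws) (u ++ i :: iv u)) (pq (rs ws) (v ++ j :: iv v)) = true := fun u hu v hv e i j hi hj e3 => by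
    refine ncF_spec (rows_pq ws _) (rows_pq ws _) e3 ?_
    rw [ev_append, ev_append, ev_cons, ev_cons, (e1 u (k3 u hu)).1, (e1 v (k3 v hv)).1]
    have e4 := (h3 _ hi _ ((mem_normalizer_iff.1 (h2 e) _).1 hj)).map (MulAut.conj (ev (el ws) u))
    simpa only [mul_assoc, _root_.MulAut.conj_apply, _root_.mul_inv_rev, _root_.inv_inv, _root_.mul_inv_cancel_left, _root_.mul_inv_cancel, _root_.mul_one] using e4
  have e3 := card_norm (N := N) (z := el ws z)
    (O := ((nf p n d).filter fun u => prF (rs ws) u fun A => Nat.beq (cX pF A) a).map (ev (el ws))) (fun b hb => by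
      obtain ⟨u, hu, e⟩ := nf_spec pc d hd _ ((mem_normalizer_iff.1 (h1 hb) _).1 hz)
      refine List.mem_map.2 ⟨u, List.mem_filter.2 ⟨hu, ?_⟩, e⟩
      rw [prF_eq, cX_eq (rows_pr ws u), e, cg_conj, ← cX_eq (rows_rs ws z), k5, Nat.beq_refl])
    (gs := us.map (ev (el ws))) (List.forall_mem_map.2 fun u hu => (e1 u (k3 u hu)).2.eq)
    (List.pairwise_map.2 ((List.pairwise_map.1 (pwB_spec k4)).imp_of_mem fun hu hv e e' => by
      simp only [Bool.or_eq_true] at e
      rcases e with (e | e) | e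
      exacts [e2 _ hu _ hv e' _ _ hy hy e, e2 _ hu _ hv e' _ _ hy' hy' e, e2 _ hu _ hv e' _ _ hy hy' e]))
  rw [List.length_map, List.length_map, ← List.countP_eq_length_filter] at e3
  exact e3.trans (Nat.mul_le_mul k6 (cent_le' lanesX (by norm_num) (rows_rs ws z) k1))

/-! ### the automorphism -/

/-- the image of a word -/
def bw (s w : List ℕ) : List ℕ := s ++ (w.map bar ++ s.reverse)

theorem exists_aut (h : Cv 2 φ) {s : List ℕ} (hs : ∀ r ∈ s, r < 48) {α : MulAut Y} (hn : ¬ ∃ y, α = MulAut.conj y) :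
    ∃ (y : Y) (β : MulAut LL), (∀ x, φ ((MulAut.conj y * α : MulAut Y) x) = β (φ x)) ∧
      ∀ w : List ℕ, (∀ r ∈ w, r < 48) → (MulAut.conj y * α : MulAut Y) (W h w) = W h (bw s w) := by
  obtain ⟨y, hy⟩ := exists_gam h hn
  refine ⟨W h s * y, MulAut.conj (φ (W h s)) * gam, fun x => ?_, fun w hw => ?_⟩
  · rw [map_mul, mul_assoc, MulAut.mul_apply, MulAut.conj_apply, map_mul, map_mul, hy, map_inv]
    rfl
  · rw [map_mul, mul_assoc, MulAut.mul_apply, MulAut.conj_apply, lift_gam h hy hw, bw, W_append, W_append, W_rev h hs,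
      mul_assoc]

/-- the images of the letters -/
noncomputable def btB (eqv : List ℕ → List ℕ → Bool) (n i o : ℕ) (M us : List (List ℕ)) : Bool :=
  ((List.range n).all fun j => Nat.ble (M.getD j []).length n && eqv [o + j] (pwd (M.getD j []))) &&
    (List.range i).all fun j => inR 0 (n + i) (us.getD j []) && eqv [o + (n + j)] (us.getD j [])

/-- the checks which do not depend on the automorphism -/
noncomputable def mnB (ws : List (List ℕ)) (p n m : ℕ) (c : Cert) (up : List Ut) (lv : List (ℕ × List (List ℕ)))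
    (Rs : List (List ℕ)) : Bool :=
  _root_.Cfsg.Agent.MO.S.Pc.chk (eqY ws Rs false) p n m c && expC n m c && upB (eqY ws Rs false) n up && lwB Rs n (p ^ n) lv

variable {p n m : ℕ} {c : Cert} {up : List Ut} {lv : List (ℕ × List (List ℕ))}

theorem mnB_spec (h : rsF ws (mnB ws p n m c up lv) = true) : _root_.Cfsg.Agent.MO.S.Pc.chk (eqY ws (rs ws) false) p n m c = true ∧
    expC n m c = true ∧ upB (eqY ws (rs ws) false) n up = true ∧ p ^ n ≤ Nat.card (V (el ws) n 0) := by
  simp only [rsF_eq, mnB, Bool.and_eq_true] at h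
  exact ⟨h.1.1.1, h.1.1.2, h.1.2, lwB_spec h.2⟩

/-- **the bound of the normaliser** -/
theorem nb_of (h1 : rsF ws (mnB ws p n m c up lv) = true) {d k z y y' : ℕ} {cs : List ℕ} {us : List (List ℕ)} {β : List ℕ}
    {st : List St} {a o B : ℕ} (h : (rsF ws fun Rs => bdB Rs p n d z y y' cs us β st a o) = true)
    (h2 : normalizer (V (el ws) n 0 : Set LL) ≤ normalizer (V (el ws) n (n - d) : Set LL))
    (h3 : normalizer (V (el ws) n 0 : Set LL) ≤ normalizer (V (el ws) n k : Set LL))
    (h4 : d ≤ n ∧ (n - d ≤ z ∧ z < n) ∧ (k ≤ y ∧ y < n) ∧ (k ≤ y' ∧ y' < n) ∧ o * (st.map St.c).prod < (B + 1) * us.length ∧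
      ∀ j < n, ∀ i < j, k ≤ i → (c.cm.getD i []).getD j [] = []) :
    Nat.card (normalizer (V (el ws) n 0 : Set LL)) ≤ B := by
  obtain ⟨k1, k2, k3, k4, k5, k6⟩ := h4
  replace h : bdB (rs ws) p n d z y y' cs us β st a o = true := (rsF_eq ws _).symm.trans h
  have k7 := (mnB_spec h1).1
  exact Nat.le_of_lt_succ (Nat.lt_of_mul_lt_mul_right ((bdB_spec h (pc_of_chk eqY_el k7) k1 h2 (mem_V k2.1 k2.2) h3
    (comm_of_chk eqY_el k7 k6) (mem_V k3.1 k3.2) (mem_V k4.1 k4.2)).trans_lt k5))

variable [Fact p.Prime] (hw : okW ws = true) (h1 : rsF ws (mnB ws p n m c up lv) = true)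

include hw h1

theorem cnt_one [Finite Y] (h : Cv 2 φ) {i : ℕ} (hi : i ≤ up.length) {prog : List ℕ} {r : ℕ}
    (h2 : chkM p m ((List.range i).map fun j => (ug up j).R) (idM m) prog (ord up i) r = true) :
    Nat.card (V (el ws) (n + i) 0) = p ^ n * ord up i ∧
      ∀ l, Fl Y l → kk p ((V (el ws) (n + i) 0).comap φ) (center Y) l = r := by
  have := finite_LL
  obtain ⟨k1, k2, k3, k4⟩ := mnB_spec h1
  have pc := pc_of_chk (eqY_el (ws := ws)) k1
  simp only [← fB_one]
  exact core (map_eY h hw) h.surj h.ker (eqY_spec h hw) k1 k2 k4 k3 hi (β := 1) (fun _ => rfl) (fun _ _ => rfl)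
    (fun j hj => (by exact mem_V (Nat.zero_le _) hj)) (fun j hj => (by exact mem_V (Nat.zero_le _) hj)) (Loc.mt_one (p := p)
      ⟨IsPGroup.of_card (pc.card_zero k4), fun j hj => mem_V (Nat.zero_le _) (hj.trans_le pc.le),
      fun j hj => exp_of_chk eqY_el k1 k2 _ (mem_V (Nat.zero_le _) (hj.trans_le pc.le)), fun H => pc.gen, pc.relIndex k4⟩) h2

variable (hp : p ≠ 2) {o : ℕ} (hS : 3311126603366400 = p ^ n * o) (ho : ¬ p ∣ o)
  (hb : Nat.card (normalizer (V (el ws) n 0 : Set LL)) ≤ p ^ n * ord up up.length) {prog : List ℕ} {r : ℕ}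
  (h2 : chkM p m ((List.range up.length).map fun j => (ug up j).R) (idM m) prog (ord up up.length) r = true)

include hp hS ho hb h2

/-- the Sylow subgroup and its normaliser -/
theorem base [Finite Y] (h : Cv 2 φ) : ∃ Q : Sylow p Y, (Q : Subgroup Y) = V (eY h ws) n 0 ∧
    normalizer ((Q : Subgroup Y) : Set Y) = (V (el ws) (n + up.length) 0).comap φ := by
  have := finite_LL
  obtain ⟨k1, -, k3, k4⟩ := mnB_spec h1
  rw [eq_of_le_of_card_ge (up_norm eqY_el k3 le_rfl) (hb.trans (cnt_one hw h1 h le_rfl h2).1.ge)]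
  exact exists_syl (map_eY h hw) h hp (pc_of_chk (eqY_spec h hw) k1) k4 (card_LL.trans hS) ho

theorem lk_of : LK p 2 LL r := fun _ _ _ _ h _ => by
  obtain ⟨Q, -, hQ⟩ := base hw h1 hp hS ho hb h2 h
  exact ⟨Q, hQ ▸ (cnt_one hw h1 h le_rfl h2).2⟩

theorem lf_of {s : List ℕ} (hs : ∀ r ∈ s, r < 48) {k : ℕ} (hk : ∀ j < n + up.length, ws.getD (k + j) [] = bw s (ws.getD j []))
    {M us : List (List ℕ)} (h3 : (rsF ws fun Rs => btB (eqY ws Rs false) n up.length k M us) = true) {prog' : List ℕ} {r' : ℕ}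
    (h4 : chkM p m ((List.range up.length).map fun j => (ug up j).R) M prog' (ord up up.length) r' = true) :
    LF p 2 LL r' := fun Y _ _ φ h _ α hα hn => by
  have := finite_LL
  obtain ⟨Q, e1, e2⟩ := base hw h1 hp hS ho hb h2 h
  obtain ⟨y, β, e3, e4⟩ := exists_aut h hs hn
  obtain ⟨k1, k2, k3, k4⟩ := mnB_spec h1
  have pc := pc_of_chk (eqY_el (ws := ws)) k1
  simp only [rsF_eq, btB, Bool.and_eq_true, List.all_eq_true, List.mem_range, Nat.ble_eq] at h3
  have e5 : ∀ j < n + up.length, (MulAut.conj y * α : MulAut Y) (eY h ws j) = ev (eY h ws) [k + j] := fun j hj => by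
    rw [eY, e4 _ (okW_getD hw j), ← hk j hj, ev_cons, ev_nil, mul_one, eY]
  have e6 : ∀ j < n, (MulAut.conj y * α : MulAut Y) (eY h ws j) = ev (eY h ws) (pwd (M.getD j [])) := fun j hj =>
    (e5 j (by omega)).trans (eqY_spec h hw _ _ (h3.1 j hj).2)
  have e7 : ∀ j < n, (MulAut.conj y * α : MulAut Y) (eY h ws j) ∈ V (eY h ws) n 0 := fun j hj =>
    e6 j hj ▸ pwd_mem (h3.1 j hj).1
  refine ⟨Q, y, e1 ▸ MK.T.stab_of_le (V_le (H := (V (eY h ws) n 0).comap (MulAut.conj y * α).toMonoidHom) fun j _ => e7 j), ?_⟩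
  rw [e2]
  refine (core (map_eY h hw) h.surj h.ker (eqY_spec h hw) k1 k2 k4 k3 le_rfl e3 (fun z hz => ?_) e7 (fun j hj => ?_)
    (fun j hj => ?_) h4).2
  · rw [MulAut.mul_apply, hα z hz, MulAut.conj_apply, mem_center_iff.1 hz, mul_inv_cancel_right]
  · rcases lt_or_ge j n with e | e
    · exact V_up (Nat.le_add_right _ _) (e7 j e)
    · obtain ⟨j, rfl⟩ := Nat.exists_eq_add_of_le e
      rw [e5 _ hj, eqY_spec h hw _ _ (h3.2 j (by omega)).2]
      exact inR_mem (h3.2 j (by omega)).1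
  · rw [← map_eY h hw, ← e3, e6 j (hj.trans_le pc.le), map_ev (map_eY h hw), pc.comm_eq]
    exact pwd_mod (h3.1 j (hj.trans_le pc.le)).1 m

end Cfsg.Agent.MO.S.F42
end

-- part: MO/S/F42/L3
section
/-!
# MO, the double cover of `F₄(2)` : the local numbers for the prime 3 (helper33)
-/

set_option autoImplicit false
set_option maxRecDepth 100000
set_option maxHeartbeats 400000

namespace Cfsg.Agent.MO.S.F42

open Cfsg Subgroup Cfsg.Agent.MO.T Cfsg.Agent.MO.S.Pc Cfsg.Agent.FourTwo.Base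
open Cfsg.Agent.MK.S.Pc (ev ev_nil ev_cons V mem_V V_le)
open Cfsg.Agent.MO.L (chkM idM)
open Cfsg.Agent.TAB.F42.G (St finite_LL)

def w3 : List (List ℕ) :=
  [[18, 17, 16, 26, 21, 41, 29, 41, 29, 47, 44], [18, 29, 27, 20, 15, 25], [46, 38, 36, 25, 34, 8, 25, 12, 10, 5], [3,
   44], [24, 17, 30, 15, 26, 22, 21], [15, 29, 28, 27, 19, 17, 16, 21, 26, 21], [24, 17, 30, 17, 15, 21, 24], [3, 25,
   20, 27, 20, 16, 15, 25, 21], [46, 22, 35, 27, 36, 10, 11, 9, 5, 4, 21, 32, 29, 27, 25, 22, 21], [27, 13, 10, 11, 2,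
   1, 24, 19, 28, 18, 17, 16, 22, 25, 22, 21, 23, 24], [24, 23, 21, 22, 25, 22, 16, 17, 18, 28, 19, 24, 1, 2, 11, 10,
   13, 27], [3, 44, 25, 27, 16, 26, 22, 24, 23], [23, 24, 22, 26, 16, 27, 25, 44, 3], [46, 0, 42, 40, 39, 33, 11, 9,
   0, 32, 31, 27, 19, 17, 24], [24, 17, 19, 27, 31, 32, 0, 9, 11, 33, 39, 40, 42, 0, 46]]

def s3 : List ℕ :=
  [27, 12, 35, 16, 14, 13, 12, 8, 0, 26, 27, 20, 16, 15, 21, 26, 23, 24, 23]

def ws3 : List (List ℕ) :=
  w3 ++ (w3.take 9).map (bw s3)

def c3 : Cert :=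
  ⟨[[], [5, 5], [], [], [], []], [[[], [4, 4, 5, 5], [], [], [5], []], [[], [], [3, 3, 5], [], [5], []], [[], [], [],
   [5], [], []], [[], [], [], [], [], []], [[], [], [], [], [], []], [[], [], [], [], [], []]], [([], [], []), ([],
   [], []), ([], [], []), ([2], [1, 3], []), ([0], [1, 1], []), ([0], [4], [])]⟩

def up3 : List Ut :=
  [⟨2, [], [[2, 0, 0, 0, 0, 1], [1, 1, 0, 0, 2, 1], [0, 0, 1, 0, 0, 0], [0, 0, 0, 1, 0, 0], [0, 0, 0, 0, 2, 0], [0, 0,
   0, 0, 0, 1]], []⟩, ⟨2, [], [[1, 0, 0, 0, 1, 0], [2, 2, 0, 0, 0, 1], [0, 0, 1, 2, 0, 0], [0, 0, 0, 2, 0, 0], [0, 0,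
   0, 0, 2, 0], [0, 0, 0, 0, 0, 2]], [[6]]⟩, ⟨2, [], [[2, 0, 0, 0, 2, 1], [0, 2, 0, 1, 2, 0], [0, 0, 2, 1, 0, 0], [0,
   0, 0, 1, 0, 2], [0, 0, 0, 0, 1, 0], [0, 0, 0, 0, 0, 2]], [[6], [7]]⟩]

def lv3 : List (ℕ × List (List ℕ)) :=
  [(41958401, [[2, 2], [2], []]), (41950209, [[3], [], [3, 3]]), (42466733, [[], [1, 1], [1]]), (22880588, [[], [5,
   5], [0], [0, 0, 5], [5], [0, 5], [0, 5, 5], [0, 0], [0, 0, 5, 5]]), (40168150, [[], [4, 4], [4]])]

def us3 : List (List ℕ) :=
  [[], [9], [11], [13], [9, 9], [11, 9], [13, 9], [9, 11], [11, 11], [13, 11], [13, 13], [11, 9, 9], [13, 9, 9], [11,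
   13, 9], [13, 11, 11], [9, 13, 11]]

def st3 : List St :=
  [⟨10157553, [80, 24641], [], 9⟩, ⟨30398052, [8276, 147, 336, 24595, 208, 179, 41267], [80, 8276, 339, 336, 33235,
   25171, 41427, 33235, 57939, 74451, 66387, 58195, 82899, 74707, 82899, 74707, 91219, 132307, 148691, 140627, 116051,
   157139, 132435, 173523, 156755], 5184⟩]

def be3 : List ℕ :=
  [54512136, 52194824, 46728794, 43827946, 1680460, 132787, 66434647, 62869482, 4637538, 30802405, 55214025, 12166574,
   13111391, 54517411, 4520778, 4502354, 684711, 6014640, 62891055, 46562245, 46825317, 54596695, 5044556, 66833595,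
   66440927, 5887147]

def pa3 : List ℕ :=
  [1, 2, 3, 0, 0, 3, 0, 0, 2, 3, 0, 0, 3]

def pb3 : List ℕ :=
  [1, 2, 3, 0, 0, 3, 0, 0, 2, 3, 0, 0, 3]

theorem ok3 : okW ws3 = true := by decide +kernel

theorem mn3 : rsF ws3 (mnB ws3 3 6 3 c3 up3 lv3) = true := by decide +kernel

theorem bd3 : (rsF ws3 fun Rs => bdB Rs 3 6 1 5 3 4 [9, 11, 13] us3 be3 st3 9 2) = true := by
  decide +kernel

theorem ca3 : chkM 3 3 ((List.range up3.length).map fun j => (ug up3 j).R) (idM 3) pa3 (ord up3 up3.length) 27 = true := by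
  decide +kernel

theorem nb3 : Nat.card (normalizer (V (el ws3) 6 0 : Set LL)) ≤ 3 ^ 6 * ord up3 up3.length :=
  have := finite_LL
  nb_of mn3 bd3 (norm_low eqY_el (mnB_spec mn3).1 (k := 3) (by decide +kernel) (norm_comm eqY_el (mnB_spec mn3).1))
    (norm_comm eqY_el (mnB_spec mn3).1) (by decide +kernel)

theorem lk3 : LK 3 2 LL 27 :=
  have : Fact (Nat.Prime 3) := ⟨Nat.prime_three⟩
  lk_of ok3 mn3 (by decide) (o := 4542011801600) (by norm_num) (by norm_num) nb3 ca3

theorem bt3 : (rsF ws3 fun Rs => btB (eqY ws3 Rs false) 6 up3.length 15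
    [[0, 0, 1, 0, 0, 2], [2, 1, 1, 0, 2, 1], [1, 0, 0, 0, 0, 2], [0, 0, 0, 0, 2, 1], [0, 0, 0, 2, 0, 2], [0, 0, 0, 0, 0, 2]]
    [[8, 7, 6], [7], [8]]) = true := by
  decide +kernel

theorem lf3 : LF 3 2 LL 9 :=
  have : Fact (Nat.Prime 3) := ⟨Nat.prime_three⟩
  lf_of ok3 mn3 (by decide) (o := 4542011801600) (by norm_num) (by norm_num) nb3 ca3 (s := s3) (by decide) (by decide +kernel) bt3
    (prog' := pb3) (by decide +kernel)

end Cfsg.Agent.MO.S.F42
end

private theorem dce_32697563c5f0 : _root_.True := by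
  try have : _root_.True := by simp only [_root_.Cfsg.Agent.MO.S.F42.btB.eq_1]
  try have : _root_.True := by simp only [_root_.Cfsg.Agent.MO.S.F42.mnB.eq_1]
  try have : _root_.True := by simp only [_root_.Cfsg.Agent.MO.S.F42.bw.eq_1]
  try have : _root_.True := by simp only [_root_.Cfsg.Agent.MO.S.F42.eqY.eq_1]
  try have : _root_.True := by simp only [_root_.Cfsg.Agent.MO.S.F42.ex.eq_1]
  try have : _root_.True := by simp only [_root_.Cfsg.Agent.MO.S.F42.bdB.eq_1]
  try have : _root_.True := by simp only [_root_.Cfsg.Agent.MO.S.F42.eY.eq_1]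
  try have : _root_.True := by simp only [_root_.Cfsg.Agent.MO.S.F42.iv.eq_1]
  try have : _root_.True := by simp only [_root_.Cfsg.Agent.MO.S.F42.ncF.eq_1]
  exact _root_.True.intro
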